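import Groth.Agent.SGA3x.K201.ExtMain
import Mathlib.AlgebraicGeometry.Morphisms.LocalFlatDescent
import Groth.Agent.Etbase.FpqcDescent

/-!
# A quotient map is affine, flat, finitely presented when the kernel is

* `isPullback_act`: `E × H ≅ E ×_K E`;
* `props`: properties of `E → K` from those of `H → S`;
* `main'`: extensions of multiplicative type groups without hypotheses on `E`.
-/

set_option autoImplicit false

universe u

open CategoryTheory MonoidalCategory CartesianMonoidalCategory MonObj GrpObj AlgebraicGeometry Limits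
open Groth.Agent SGA3b K10.MTLoc

namespace K201.ExtProps

open KerBc

variable {S : Scheme.{u}} {N G Q : Over S} [GrpObj G] [GrpObj Q] {i : N ⟶ G} {p : G ⟶ Q} [IsMonHom p]

/-- `(g, h) ↦ g h`. -/
noncomputable def act (i : N ⟶ G) : G ⊗ N ⟶ G := fst G N * (snd G N ≫ i)

theorem isPullback_act (h : Ker i p) : IsPullback (fst G N) (act i) p p := by
  have h1 := h.mono
  have hip : i ≫ p = 1 := (h.pts _ i).1 ⟨𝟙 _, Category.id_comp _⟩
  have hw : fst G N ≫ p = act i ≫ p := by
    rw [act, mul_comp, Category.assoc, hip, comp_one, _root_.mul_one]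
  have hl : ∀ s : PullbackCone p p, ∃ b : s.pt ⟶ N, b ≫ i = s.fst⁻¹ * s.snd := fun s => (h.pts _ _).2 (by
    rw [mul_comp, GrpObj.inv_comp, s.condition, inv_mul_cancel])
  choose l hl using hl
  refine ⟨⟨hw⟩, ⟨PullbackCone.IsLimit.mk _ (fun s => lift s.fst (l s)) (fun s => lift_fst _ _) (fun s => ?_)
    (fun s m hm1 hm2 => ?_)⟩⟩
  · rw [act, comp_mul, lift_fst, lift_snd_assoc, hl, mul_inv_cancel_left]
  · have h2 : (m ≫ fst G N) * ((m ≫ snd G N) ≫ i) = s.snd := by
      rw [Category.assoc, ← comp_mul]
      exact hm2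
    refine CartesianMonoidalCategory.hom_ext _ _ (by rw [lift_fst]; exact hm1) ?_
    rw [lift_snd, ← cancel_mono i, hl, ← h2]
    rw [show m ≫ fst G N = s.fst from hm1, inv_mul_cancel_left]

theorem prop_of_ker (P : MorphismProperty Scheme.{u}) [P.IsStableUnderBaseChange]
    [P.DescendsAlong (@Surjective ⊓ @Flat ⊓ @QuasiCompact)] (h : Ker i p) [Flat p.left] [Surjective p.left]
    [QuasiCompact p.left] (hN : P N.hom) : P p.left := by
  have h1 : IsPullback (fst G N).left (act i).left p.left p.left := (isPullback_act h).map (Over.forget S)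
  refine MorphismProperty.of_isPullback_of_descendsAlong (P := P)
    (Q := (@Surjective ⊓ @Flat ⊓ @QuasiCompact : MorphismProperty Scheme.{u})) h1 ?_ ?_
  · exact ⟨⟨inferInstance, inferInstance⟩, inferInstance⟩
  · rw [Over.fst_left]
    exact MorphismProperty.pullback_fst _ _ hN

end K201.ExtProps

namespace K201.ExtProps

open KerBc ExtMain

variable {S : Scheme.{u}} {N G Q : Over S} [GrpObj N] [GrpObj G] [GrpObj Q] {i : N ⟶ G} [IsMonHom i] {p : G ⟶ Q}
    [IsMonHom p]

/-- **Extensions of groups of multiplicative type.** -/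
theorem main' (hker : AlgGrp.IsKernel i p) [Flat p.left] [Surjective p.left] [QuasiCompact p.left]
    (hN : SGA3x.IsMultTypeFT N)
    (hQ : SGA3x.IsMultTypeFT Q) (hfib : ∀ s : S, _root_.IsConnected (Q.hom.base ⁻¹' {s}) ∨
      ∀ (X : Over (Spec (S.residueField s))) (a b : X ⟶ Red.bc (S.fromSpecResidueField s) G), a * b = b * a) :
    SGA3x.IsMultTypeFT G := by
  have h := ker_of_isKernel hker
  have h1 : IsAffineHom p.left := by
    have := Etbase.FpqcDescent.descendsAlong_isAffineHom.{u}
    exact prop_of_ker @IsAffineHom h (isAffineHom hN)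
  have h2 : LocallyOfFinitePresentation p.left :=
    prop_of_ker @LocallyOfFinitePresentation h (locallyOfFinitePresentation hN)
  have hA : IsAffineHom Q.hom := isAffineHom hQ
  have hF : Flat Q.hom := flat hQ
  have hP : LocallyOfFinitePresentation Q.hom := locallyOfFinitePresentation hQ
  have hw : p.left ≫ Q.hom = G.hom := Over.w p
  refine main hker ?_ ?_ ?_ hN hQ hfib
  · rw [← hw]; infer_instance
  · rw [← hw]; infer_instance
  · rw [← hw]; infer_instance

theorem comm_bc [IsCommMonObj G] {S' : Scheme.{u}} (f : S' ⟶ S) (X : Over S') (a b : X ⟶ Red.bc f G) :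
    a * b = b * a := by
  have h1 : IsCommMonObj (Red.bc f G) := inferInstanceAs (IsCommMonObj ((Over.pullback f).obj G))
  exact _root_.mul_comm a b

end K201.ExtProps
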