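import Groth.Agent.SGA3x.K11.ExtMT

/-!
# Extensions of groups of multiplicative type by groups of multiplicative type with connected fibres are commutative
-/

set_option autoImplicit false
universe u
open CategoryTheory MonoidalCategory CartesianMonoidalCategory MonObj GrpObj AlgebraicGeometry Limits

namespace K201.ExtComm

variable {S : Scheme.{u}}

/-- A family of homomorphisms between groups of multiplicative type, parametrised by a scheme with connected
fibres and trivial along a section, is trivial. -/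
theorem eq_one_of_isHomFamily {K H U : Over S} [GrpObj K] [GrpObj H] (hK : SGA3x.IsMultTypeFT K)
    (hH : SGA3x.IsMultTypeFT H)
    (hU : ∀ s : S, _root_.IsConnected (U.hom.base ⁻¹' {s})) (ε : 𝟙_ (Over S) ⟶ U) (θ : K ⊗ U ⟶ H)
    (hθ : AutFam.IsHomFamily K H θ)
    (hε : ∀ (T : Over S) (h : T ⟶ K), lift h (toUnit T ≫ ε) ≫ θ = 1) : θ = 1 := by
  have hfst : AutFam.IsHomFamily K H (1 : K ⊗ U ⟶ H) := fun X g₁ g₂ t => by
    rw [MonObj.comp_one, MonObj.comp_one, MonObj.comp_one, _root_.mul_one]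
  obtain ⟨C, hC, hCiff⟩ := Groth.Agent.SGA3x.K5.Clopen.exists_clopen_fam hK hH hθ hfst
  have h1 : Set.range ε.left ⊆ (C : Set U.left) := by
    refine (hCiff _ ε).1 fun T' b q => ?_
    rw [toUnit_unique b (toUnit T'), hε, MonObj.comp_one]
  have h2 : (C : Set U.left) = Set.univ := by
    rw [Set.eq_univ_iff_forall]
    intro x
    have hcl : IsClopen (C : Set U.left) := ⟨hC, C.2⟩
    let s := U.hom x
    have hs : ε.left s ∈ U.hom.base ⁻¹' {s} := by
      have h3 : ε.left ≫ U.hom = 𝟙 S := Over.w ε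
      change U.hom (ε.left s) = s
      rw [← Scheme.Hom.comp_apply, h3]
      rfl
    exact (hU s).isPreconnected.subset_isClopen hcl ⟨_, hs, h1 ⟨s, rfl⟩⟩ (show x ∈ _ from rfl)
  have h3 := (hCiff (K ⊗ U) (snd K U)).2 (by rw [h2]; exact Set.subset_univ _) (K ⊗ U) (𝟙 _) (fst K U)
  rwa [Category.id_comp, lift_fst_snd, Category.id_comp, Category.id_comp] at h3

/-- Lifting a point fpqc-locally. -/
theorem exists_cover {E K : Over S} (p : E ⟶ K) [Surjective p.left] [Flat p.left] {X : Over S} (a : X ⟶ K) :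
    ∃ (P : Over S) (q : P ⟶ X) (b : P ⟶ E), Epi q ∧ b ≫ p = q ≫ a := by
  have hpb : IsPullback (pullback.fst a p).left (pullback.snd a p).left a.left p.left :=
    (IsPullback.of_hasPullback a p).map (Over.forget S)
  have g1 : Flat (pullback.fst a p).left := MorphismProperty.of_isPullback (P := @Flat) hpb.flip inferInstance
  have g2 : Surjective (pullback.fst a p).left :=
    MorphismProperty.of_isPullback (P := @Surjective) hpb.flip inferInstance
  exact ⟨pullback a p, pullback.fst a p, pullback.snd a p,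
    Groth.Agent.Sga3C.QuotProps.epi_of_flat_surjective (pullback.fst a p), pullback.condition.symm⟩

/-- **Commutativity.** -/
theorem comm (E H K : Over S) [GrpObj E] [GrpObj H] [GrpObj K]
    (p : E ⟶ K) [IsMonHom p] [Surjective p.left] [Flat p.left] [QuasiCompact p.left]
    (i : H ⟶ E) [IsMonHom i] (hker : AlgGrp.IsKernel i p) (hH : SGA3x.IsMultTypeFT H) (hK : SGA3x.IsMultTypeFT K)
    (hU : ∀ s : S, _root_.IsConnected (K.hom.base ⁻¹' {s})) (X : Over S) (a b : X ⟶ E) : a * b = b * a := by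
  have hcent := K11.ExtMT.central E H K p i hker hH hU
  have hip : ∀ {T : Over S} (a : T ⟶ H), a ≫ i ≫ p = 1 := by
    intro T a
    rw [hker.w, ← Category.assoc]
    change (a ≫ toUnit H) ≫ η[K] = toUnit T ≫ η[K]
    congr 1
    exact toUnit_unique _ _
  have hlift : ∀ {T : Over S} (a : T ⟶ E), a ≫ p = 1 → ∃ b : T ⟶ H, b ≫ i = a := by
    intro T a ha
    refine ⟨hker.lift a (toUnit T) ha, hker.lift_fst _ _ _⟩
  have hmono : Mono i := by
    have : Mono (η[K] : 𝟙_ (Over S) ⟶ K) := ⟨fun a b _ => toUnit_unique _ _⟩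
    exact MorphismProperty.of_isPullback (P := MorphismProperty.monomorphisms (Over S)) hker.flip
      (MorphismProperty.monomorphisms.infer_property _)
  -- the commutator of `E`, with values in `H` because `K` is commutative
  obtain ⟨c, hc⟩ := hlift (T := E ⊗ E) (fst E E * snd E E * (fst E E)⁻¹ * (snd E E)⁻¹) (by
    rw [mul_comp, mul_comp, mul_comp, inv_comp, inv_comp, K11.ExtMT.mul_comm' hK (fst E E ≫ p)]
    simp only [_root_.mul_assoc, mul_inv_cancel_left, _root_.one_mul, mul_inv_cancel])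
  have hcT : ∀ {T : Over S} (x y : T ⟶ E), lift x y ≫ c ≫ i = x * y * x⁻¹ * y⁻¹ := by
    intro T x y
    rw [hc, comp_mul, comp_mul, comp_mul, comp_inv, comp_inv, lift_snd, lift_fst]
  -- invariance
  have inv1 : ∀ {T : Over S} (x y : T ⟶ E) (k : T ⟶ H), lift (x * (k ≫ i)) y ≫ c = lift x y ≫ c := by
    intro T x y k
    rw [← cancel_mono i, Category.assoc, Category.assoc, hcT, hcT, _root_.mul_inv_rev]
    have h1 : x * (k ≫ i) * y = x * y * (k ≫ i) := by
      rw [_root_.mul_assoc, hcent, ← _root_.mul_assoc]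
    rw [h1]
    simp only [_root_.mul_assoc, mul_inv_cancel_left]
  have inv2 : ∀ {T : Over S} (x y : T ⟶ E) (k : T ⟶ H), lift x (y * (k ≫ i)) ≫ c = lift x y ≫ c := by
    intro T x y k
    rw [← cancel_mono i, Category.assoc, Category.assoc, hcT, hcT, _root_.mul_inv_rev]
    have h1 : x * (y * (k ≫ i)) * x⁻¹ = x * y * x⁻¹ * (k ≫ i) := by
      simp only [_root_.mul_assoc, hcent T k x⁻¹]
    rw [h1]
    simp only [_root_.mul_assoc, mul_inv_cancel_left]
  have hdiff : ∀ {T : Over S} (x y : T ⟶ E), x ≫ p = y ≫ p → ∃ k : T ⟶ H, x = y * (k ≫ i) := by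
    intro T x y hxy
    obtain ⟨k, hk⟩ := hlift (y⁻¹ * x) (by rw [mul_comp, inv_comp, hxy, inv_mul_cancel])
    exact ⟨k, by rw [hk, mul_inv_cancel_left]⟩
  -- first descent
  have hw1 := K686.Whisk.isPullback_whiskerRight_left p E
  have f1 : Flat (p ▷ E).left := MorphismProperty.of_isPullback (P := @Flat) hw1.flip inferInstance
  have f2 : Surjective (p ▷ E).left :=
    MorphismProperty.of_isPullback (P := @Surjective) hw1.flip inferInstance
  have f3 : QuasiCompact (p ▷ E).left :=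
    MorphismProperty.of_isPullback (P := @QuasiCompact) hw1.flip inferInstance
  obtain ⟨θ₁, hθ₁⟩ := Groth.Agent.Sga3.H140.QuotQC.exists_desc (p ▷ E) c (by
    intro T x y hxy
    have e1 : (x ≫ fst E E) ≫ p = (y ≫ fst E E) ≫ p := by
      have := congrArg (fun z => z ≫ fst K E) hxy
      simpa using this
    have e2 : x ≫ snd E E = y ≫ snd E E := by
      have := congrArg (fun z => z ≫ snd K E) hxy
      simpa using this
    have hx : x = lift (x ≫ fst E E) (x ≫ snd E E) := by
      apply CartesianMonoidalCategory.hom_ext <;> simp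
    have hy : y = lift (y ≫ fst E E) (y ≫ snd E E) := by
      apply CartesianMonoidalCategory.hom_ext <;> simp
    obtain ⟨k, hk⟩ := hdiff _ _ e1
    rw [hx, hy, hk, e2, inv1])
  have hθ₁T : ∀ {T : Over S} (x y : T ⟶ E), lift (x ≫ p) y ≫ θ₁ = lift x y ≫ c := by
    intro T x y
    rw [← hθ₁, ← Category.assoc, lift_whiskerRight]
  -- second descent
  have hw2 := K686.Whisk.isPullback_whiskerLeft_left p K
  have g1 : Flat (K ◁ p).left := MorphismProperty.of_isPullback (P := @Flat) hw2.flip inferInstance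
  have g2 : Surjective (K ◁ p).left :=
    MorphismProperty.of_isPullback (P := @Surjective) hw2.flip inferInstance
  have g3 : QuasiCompact (K ◁ p).left :=
    MorphismProperty.of_isPullback (P := @QuasiCompact) hw2.flip inferInstance
  obtain ⟨θ, hθ⟩ := Groth.Agent.Sga3.H140.QuotQC.exists_desc (K ◁ p) θ₁ (by
    intro T x y hxy
    have e1 : x ≫ fst K E = y ≫ fst K E := by
      have := congrArg (fun z => z ≫ fst K K) hxy
      simpa using this
    have e2 : (x ≫ snd K E) ≫ p = (y ≫ snd K E) ≫ p := by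
      have := congrArg (fun z => z ≫ snd K K) hxy
      simpa using this
    have hx : x = lift (x ≫ fst K E) (x ≫ snd K E) := by
      apply CartesianMonoidalCategory.hom_ext <;> simp
    have hy : y = lift (y ≫ fst K E) (y ≫ snd K E) := by
      apply CartesianMonoidalCategory.hom_ext <;> simp
    obtain ⟨k, hk⟩ := hdiff _ _ e2
    obtain ⟨P, q, b, hq, hb⟩ := exists_cover p (x ≫ fst K E)
    rw [← cancel_epi q, hx, hy, ← e1, hk, ← Category.assoc, ← Category.assoc, comp_lift, comp_lift, ← hb, hθ₁T,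
      hθ₁T, comp_mul, ← Category.assoc q k, inv2])
  have hθT : ∀ {T : Over S} (x y : T ⟶ E), lift (x ≫ p) (y ≫ p) ≫ θ = lift x y ≫ c := by
    intro T x y
    rw [← hθ₁T, ← hθ, ← Category.assoc, lift_whiskerLeft]
  have hfam : AutFam.IsHomFamily K H θ := by
    intro X g₁ g₂ t
    obtain ⟨P₁, q₁, b₁, hq₁, hb₁⟩ := exists_cover p g₁
    obtain ⟨P₂, q₂, b₂, hq₂, hb₂⟩ := exists_cover p (q₁ ≫ g₂)
    obtain ⟨P₃, q₃, b₃, hq₃, hb₃⟩ := exists_cover p (q₂ ≫ q₁ ≫ t)
    have hepi : Epi (q₃ ≫ q₂ ≫ q₁) := inferInstance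
    have k1 : (q₃ ≫ q₂ ≫ q₁) ≫ g₁ = (q₃ ≫ q₂ ≫ b₁) ≫ p := by simp only [Category.assoc, hb₁]
    have k2 : (q₃ ≫ q₂ ≫ q₁) ≫ g₂ = (q₃ ≫ b₂) ≫ p := by simp only [Category.assoc, hb₂]
    have k3 : (q₃ ≫ q₂ ≫ q₁) ≫ t = b₃ ≫ p := by simp only [Category.assoc, hb₃]
    rw [← cancel_epi (q₃ ≫ q₂ ≫ q₁), comp_mul, comp_lift_assoc, comp_lift_assoc, comp_lift_assoc, comp_mul, k1, k2,
      k3, ← mul_comp, hθT, hθT, hθT, ← cancel_mono i, mul_comp, Category.assoc, Category.assoc, Category.assoc,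
      hcT, hcT, hcT]
    generalize q₃ ≫ q₂ ≫ b₁ = x
    generalize hx' : q₃ ≫ b₂ = x'
    generalize b₃ = y
    -- [x x', y] = [x, y] [x', y]
    have h1 := hcent P₃ (lift x' y ≫ c) x
    rw [Category.assoc, hcT] at h1
    have h2 : x * x' * y * (x * x')⁻¹ * y⁻¹ = (x * (x' * y * x'⁻¹ * y⁻¹)) * (y * x⁻¹ * y⁻¹) := by
      simp only [_root_.mul_inv_rev, _root_.mul_assoc, inv_mul_cancel_left]
    have h3 := hcent P₃ (lift x' y ≫ c) (x * y * x⁻¹ * y⁻¹)
    rw [Category.assoc, hcT] at h3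
    rw [h2, ← h1, ← h3]
    simp only [_root_.mul_assoc]
  have hunit : ∀ (T : Over S) (h : T ⟶ K), lift h (toUnit T ≫ η[K]) ≫ θ = 1 := by
    intro T h
    obtain ⟨P, q, b, hq, hb⟩ := exists_cover p h
    rw [← cancel_epi q, ← Category.assoc, comp_lift, ← hb]
    have h1 : q ≫ toUnit T ≫ η[K] = (1 : P ⟶ E) ≫ p := by
      rw [one_comp, ← Category.assoc, toUnit_unique (q ≫ toUnit T) (toUnit P)]; rfl
    rw [h1, hθT, ← cancel_mono i, Category.assoc, hcT, _root_.mul_one, mul_inv_cancel, _root_.one_mul, inv_one,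
      comp_one, one_comp]
  have hfin := eq_one_of_isHomFamily hK hH hU η[K] θ hfam hunit
  have h1 := hcT a b
  rw [← Category.assoc, ← hθT, hfin, comp_one, one_comp] at h1
  rw [eq_comm, mul_inv_eq_one, mul_inv_eq_iff_eq_mul] at h1
  exact h1

end K201.ExtComm
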