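import Groth.Agent.SGA3x.K201.KerBc
import Groth.Agent.SGA3x.K201.ExtComm
import Groth.Agent.Sga3.H829.Largest
import Mathlib.RingTheory.Flat.FaithfullyFlat.Algebra

/-!
# Extensions of groups of multiplicative type

* `isMultTypeFT_of_comm_field`: commutative extensions over a field;
* `isMultTypeFT_of_fibres`: an affine flat finitely presented extension with fibres of multiplicative type;
* `main`: with fibres connected or commutative.
-/

set_option autoImplicit false

universe u

open CategoryTheory MonoidalCategory CartesianMonoidalCategory MonObj GrpObj AlgebraicGeometry Limits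
open TensorProduct
open Groth.Agent Groth.Agent.Books.AffBridge Groth.Agent.Books.AffBridge2 Groth.Agent.Sga3A Groth.Agent.Sga3B
open SGA3b K10.MTLoc

namespace K201.ExtMain

open TorsScheme TorsGen TorsFib TorsOrder FibRes BCIso KerBc

variable {S : Scheme.{u}} {N G Q : Over S} [GrpObj N] [GrpObj G] [GrpObj Q] {i : N ⟶ G} [IsMonHom i] {p : G ⟶ Q}
    [IsMonHom p]

/-- Algebraic properties of the Hopf algebra of a base change. -/
theorem flat_and_fp (hHfl : Flat G.hom) (hHfp : LocallyOfFinitePresentation G.hom) {R A : Type u} [CommRing R]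
    [CommRing A] [HopfAlgebra R A] (j : Spec (CommRingCat.of R) ⟶ S)
    (eA : Grp.mk (Red.bc j G) ≅ Grp.mk (SpecOver R A)) : Module.Flat R A ∧ Algebra.FinitePresentation R A := by
  have hiso : IsIso eA.inv.hom.hom.left := by
    have : IsIso eA.inv.hom.hom := ⟨eA.hom.hom.hom, congrArg (fun k => k.hom.hom) eA.inv_hom_id,
      congrArg (fun k => k.hom.hom) eA.hom_inv_id⟩
    exact inferInstanceAs (IsIso ((Over.forget _).map eA.inv.hom.hom))
  have hw : eA.inv.hom.hom.left ≫ pullback.snd G.hom j = Spec.map (CommRingCat.ofHom (algebraMap R A)) :=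
    Over.w eA.inv.hom.hom
  constructor
  · have h0 : Flat (pullback.snd G.hom j) := inferInstance
    have h1 : Flat (Spec.map (CommRingCat.ofHom (algebraMap R A))) := by
      rw [← hw]
      exact (MorphismProperty.cancel_left_of_respectsIso @Flat eA.inv.hom.hom.left (pullback.snd G.hom j)).mpr h0
    rw [HasRingHomProperty.Spec_iff (P := @Flat)] at h1
    exact RingHom.flat_algebraMap_iff.mp h1
  · have h0 : LocallyOfFinitePresentation (pullback.snd G.hom j) := inferInstance
    have h1 : LocallyOfFinitePresentation (Spec.map (CommRingCat.ofHom (algebraMap R A))) := by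
      rw [← hw]
      exact (MorphismProperty.cancel_left_of_respectsIso @LocallyOfFinitePresentation eA.inv.hom.hom.left
        (pullback.snd G.hom j)).mpr h0
    rw [HasRingHomProperty.Spec_iff (P := @LocallyOfFinitePresentation)] at h1
    simp only [CommRingCat.hom_ofHom] at h1
    exact RingHom.finitePresentation_algebraMap.mp h1

/-- **Commutative extensions over a field.** -/
theorem isMultTypeFT_of_comm_field (h : Ker i p) [Flat p.left] [Surjective p.left] (hGa : IsAffineHom G.hom)
    (hGft : LocallyOfFiniteType G.hom) (hN : SGA3x.IsMultTypeFT N) (hQ : SGA3x.IsMultTypeFT Q) {k : Type u} [Field k]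
    (c : Spec (CommRingCat.of k) ⟶ S) (hcomm : ∀ (X : Over (Spec (CommRingCat.of k))) (a b : X ⟶ Red.bc c G),
      a * b = b * a) : SGA3x.IsMultTypeFT (Red.bc c G) := by
  obtain ⟨C, _, _, ⟨eN⟩⟩ := exists_hopf' (isAffineHom hN) c
  obtain ⟨A, _, _, ⟨eG⟩⟩ := exists_hopf' hGa c
  obtain ⟨B, _, _, ⟨eQ⟩⟩ := exists_hopf' (isAffineHom hQ) c
  obtain ⟨φ, ψ, hψ, hk, hff⟩ := exists_hopf_ext h c eN eG eQ
  let uG : Red.bc c G ≅ SpecOver k A := (Grp.forget _).mapIso eG
  have huG : IsMonHom uG.inv := eG.inv.hom.isMonHom_hom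
  have hcc : Coalgebra.IsCocomm k A := Groth.Agent.Sga3.H829.Largest.isCocomm_of_points (k := k) (A := A) (by
    intro X x y
    have := hcomm X (x ≫ uG.inv) (y ≫ uG.inv)
    rw [← MonObj.mul_comp, ← MonObj.mul_comp, cancel_mono] at this
    exact this)
  have hB := isMultType_of_isMultTypeFT (of_iso eQ (bc c hQ))
  have hC := isMultType_of_isMultTypeFT (of_iso eN (bc c hN))
  have hft : Algebra.FiniteType k A := by
    have hiso : IsIso uG.inv.left := inferInstanceAs (IsIso ((Over.forget _).map uG.inv))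
    have hw : uG.inv.left ≫ pullback.snd G.hom c = (SpecOver k A).hom := Over.w uG.inv
    have h0 : LocallyOfFiniteType (pullback.snd G.hom c) := inferInstance
    rw [← locallyOfFiniteType_specOver_iff, ← hw]
    exact (MorphismProperty.cancel_left_of_respectsIso @LocallyOfFiniteType uG.inv.left
        (pullback.snd G.hom c)).mpr h0
  let _ : Algebra B A := (φ : B →ₐ[k] A).toRingHom.toAlgebra
  have : IsScalarTower k B A := IsScalarTower.of_algebraMap_eq fun r => ((φ : B →ₐ[k] A).commutes r).symm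
  have hff' : Module.FaithfullyFlat B A := RingHom.faithfullyFlat_algebraMap_iff.mp hff
  have hA : IsMultType k A := ExtField.isMultType_of_ext hψ hk (fun _ => rfl)
    (MultBC.IsMultType.const_of_isLocalRing hB) (MultBC.IsMultType.const_of_isLocalRing hC)
  exact of_iso eG.symm (K13.MTHopf.isMultTypeFT_of_isMultType hA (fun T _ _ => inferInstance))

/-- All fibres of the Hopf algebra of a base change. -/
theorem allFib (hfib : ∀ s : S, SGA3x.IsMultTypeFT (Red.bc (S.fromSpecResidueField s) G)) {R A : Type u} [CommRing R]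
    [CommRing A] [HopfAlgebra R A] (j : Spec (CommRingCat.of R) ⟶ S)
    (eA : Grp.mk (Red.bc j G) ≅ Grp.mk (SpecOver R A)) : AllFib R A := by
  intro L _ _
  obtain ⟨b⟩ := Hens.Dict.bc_specOver R A L
  obtain ⟨g, hg⟩ := exists_factor_field (Spec.map (CommRingCat.ofHom (algebraMap R L)) ≫ j)
  refine isMultType_of_isMultTypeFT (of_iso (BcIso.bcCompIso _ j G ≪≫ BcIso.bcMapIso _ eA ≪≫ b) ?_)
  rw [← hg]
  exact of_iso (BcIso.bcCompIso g _ G).symm (bc g (hfib _))

/-- Faithfully flat maps of Hopf algebras stay injective after base change. -/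
theorem injective_mapBialg {R A B : Type u} [CommRing R] [CommRing A] [Bialgebra R A] [CommRing B] [Bialgebra R B]
    (φ : B →ₐc[R] A) (hff : (φ : B →ₐ[R] A).toRingHom.FaithfullyFlat) (L : Type u) [CommRing L] [Algebra R L] :
    Function.Injective (mapBialg L φ) := by
  let _ : Algebra B A := (φ : B →ₐ[R] A).toRingHom.toAlgebra
  have : IsScalarTower R B A := IsScalarTower.of_algebraMap_eq fun r => ((φ : B →ₐ[R] A).commutes r).symm
  have hff' : Module.FaithfullyFlat B A := RingHom.faithfullyFlat_algebraMap_iff.mp hff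
  have h1 := Module.FaithfullyFlat.tensorProduct_mk_injective (A := B) (B := A) (B ⊗[R] L)
  have h2 : Function.Injective ((Algebra.TensorProduct.cancelBaseChange R B B A L : A ⊗[B] (B ⊗[R] L) ≃ₐ[B] A ⊗[R] L) ∘
      (TensorProduct.mk B A (B ⊗[R] L) 1) ∘ (TensorProduct.comm R L B)) :=
    (AlgEquiv.injective _).comp (h1.comp (TensorProduct.comm R L B).injective)
  have h3 : ∀ x : L ⊗[R] B, TensorProduct.comm R L A (mapBialg L φ x) =
      ((Algebra.TensorProduct.cancelBaseChange R B B A L : A ⊗[B] (B ⊗[R] L) ≃ₐ[B] A ⊗[R] L) ∘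
      (TensorProduct.mk B A (B ⊗[R] L) 1) ∘ (TensorProduct.comm R L B)) x := by
    intro x
    induction x with
    | zero => simp
    | add x y hx hy =>
      simp only [map_add, Function.comp_apply] at hx hy ⊢
      rw [hx, hy]
    | tmul l b =>
      simp only [mapBialg_tmul, Function.comp_apply, TensorProduct.comm_tmul, TensorProduct.mk_apply,
        Algebra.TensorProduct.cancelBaseChange_tmul]
      rw [Algebra.smul_def, _root_.mul_one]
      rfl
  intro x y hxy
  apply h2
  rw [← h3, ← h3, hxy]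

/-- A diagonalisable group as the spectrum of a group algebra. -/
theorem exists_hopf_split {R : Type u} [CommRing R] {T : Over (Spec (CommRingCat.of R))} [GrpObj T] {M : Type}
    [AddCommGroup M] (e : Grp.mk T ≅ Grp.mk (Red.DS (Spec (CommRingCat.of R)) M)) :
    Nonempty (Grp.mk T ≅ Grp.mk (SpecOver R (MonoidAlgebra R (Mu.{u} M)))) := by
  have h1 : Red.IsSplitTorusWith M T := ⟨e⟩
  rw [RG.BrDiag.isSplitTorusWith_iff] at h1
  obtain ⟨e', he'⟩ := h1
  have h2 : MonoidAlgebra R (Multiplicative M) ≃ₐc[R] MonoidAlgebra R (Mu.{u} M) :=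
    ((MTBasis.GBasis.ofBialgEquiv (BialgEquiv.refl R (MonoidAlgebra R (Multiplicative M)))).reindex
      MulEquiv.ulift.symm).bialgEquiv.symm
  obtain ⟨b⟩ := (Hens.Dict.nonempty_bialgEquiv R (MonoidAlgebra R (Multiplicative M))
    (MonoidAlgebra R (Mu.{u} M))).mpr ⟨h2⟩
  exact ⟨Grp.mkIso' e' ≪≫ b⟩

/-- **Extensions with fibres of multiplicative type.** -/
theorem isMultTypeFT_of_fibres (h : Ker i p) [Flat p.left] [Surjective p.left] (hGa : IsAffineHom G.hom)
    (hGfl : Flat G.hom) (hGfp : LocallyOfFinitePresentation G.hom) (hN : SGA3x.IsMultTypeFT N)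
    (hQ : SGA3x.IsMultTypeFT Q) (hfib : ∀ s : S, SGA3x.IsMultTypeFT (Red.bc (S.fromSpecResidueField s) G)) :
    SGA3x.IsMultTypeFT G := by
  refine of_etale fun s => ?_
  obtain ⟨R₁, _, v₁, M', _, hv₁, ⟨x₁, hx₁⟩, hM', ⟨e₁⟩⟩ := exists_etale_split hN s
  obtain ⟨R, _, v₂, M'', _, hv₂, ⟨x₂, hx₂⟩, hM'', ⟨e₂⟩⟩ := exists_etale_split (bc v₁ hQ) x₁
  refine ⟨_, v₂ ≫ v₁, inferInstance, ⟨x₂, by rw [Scheme.Hom.comp_apply, hx₂, hx₁]⟩, ?_⟩
  obtain ⟨A, _, _, ⟨eG⟩⟩ := exists_hopf' hGa (v₂ ≫ v₁)
  obtain ⟨eN⟩ := exists_hopf_split (BcIso.bcCompIso v₂ v₁ N ≪≫ BcIso.bcMapIso v₂ e₁ ≪≫ TorusAlgClosed.dsBcIso v₂ M')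
  obtain ⟨eQ⟩ := exists_hopf_split (BcIso.bcCompIso v₂ v₁ Q ≪≫ e₂)
  obtain ⟨φ, ψ, hψ, hk, hff⟩ := exists_hopf_ext h (v₂ ≫ v₁) eN eG eQ
  obtain ⟨hfl, hfp⟩ := flat_and_fp hGfl hGfp (v₂ ≫ v₁) eG
  have hfg : Group.FG (Mu.{u} M') := fg_mu M' hM'
  refine of_iso eG.symm (K13.MTHopf.isMultTypeFT_of_isMultType
    (ExtHens.isMultType_of_charExt hfp (allFib hfib (v₂ ≫ v₁) eG)
      (ExtHens.charExt_of_exact φ ψ hψ hk fun L _ _ => injective_mapBialg φ hff L)) (fun T _ _ => inferInstance))

theorem isKernel_of_ker {N G Q : Over S} [GrpObj Q] {i : N ⟶ G} {p : G ⟶ Q} (h : Ker i p) :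
    AlgGrp.IsKernel i p := by
  have h1 := h.mono
  have hw : i ≫ p = toUnit N ≫ η[Q] := (h.pts _ _).1 ⟨𝟙 _, Category.id_comp _⟩
  have hl : ∀ s : PullbackCone p η[Q], ∃ b : s.pt ⟶ N, b ≫ i = s.fst := fun s => (h.pts _ _).2 (by
    rw [s.condition, toUnit_unique s.snd (toUnit _)]
    rfl)
  choose l hl using hl
  exact ⟨⟨hw⟩, ⟨PullbackCone.IsLimit.mk _ l hl (fun s => toUnit_unique _ _) (fun s m hm _ => by
    rw [← cancel_mono i, hm, hl])⟩⟩

/-- The fibres of the base change to a point. -/
theorem isConnected_bc {X : Over S} {s : S} (hs : _root_.IsConnected (X.hom.base ⁻¹' {s}))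
    (t : ↥(Spec (S.residueField s))) :
    _root_.IsConnected ((Red.bc (S.fromSpecResidueField s) X).hom.base ⁻¹' {t}) := by
  have h1 : ConnectedSpace (X.hom.fiber s) := by
    have h2 : ConnectedSpace (X.hom.base ⁻¹' {s}) := isConnected_iff_connectedSpace.mp hs
    exact (X.hom.fiberHomeo s).symm.surjective.connectedSpace (X.hom.fiberHomeo s).symm.continuous
  have h3 : (Red.bc (S.fromSpecResidueField s) X).hom.base ⁻¹' {t} = Set.univ := by
    rw [Set.eq_univ_iff_forall]
    intro x
    exact Subsingleton.elim (α := PrimeSpectrum (S.residueField s)) _ _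
  rw [h3]
  exact isConnected_univ (α := X.hom.fiber s)

/-- **Extensions with commutative or connected fibres.** -/
theorem main (hker : AlgGrp.IsKernel i p) [Flat p.left] [Surjective p.left] [QuasiCompact p.left]
    (hGa : IsAffineHom G.hom)
    (hGfl : Flat G.hom) (hGfp : LocallyOfFinitePresentation G.hom) (hN : SGA3x.IsMultTypeFT N)
    (hQ : SGA3x.IsMultTypeFT Q) (hfib : ∀ s : S, _root_.IsConnected (Q.hom.base ⁻¹' {s}) ∨
      ∀ (X : Over (Spec (S.residueField s))) (a b : X ⟶ Red.bc (S.fromSpecResidueField s) G), a * b = b * a) :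
    SGA3x.IsMultTypeFT G := by
  have h := ker_of_isKernel hker
  refine isMultTypeFT_of_fibres h hGa hGfl hGfp hN hQ fun s => ?_
  refine isMultTypeFT_of_comm_field (k := S.residueField s) h hGa inferInstance hN hQ (S.fromSpecResidueField s) ?_
  rcases hfib s with hs | hs
  · let c := S.fromSpecResidueField s
    have hpb := isPullback_bc c p
    have f1 : Flat ((Over.pullback c).map p).left := MorphismProperty.of_isPullback hpb inferInstance
    have f2 : Surjective ((Over.pullback c).map p).left := MorphismProperty.of_isPullback hpb inferInstance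
    have f3 : QuasiCompact ((Over.pullback c).map p).left := MorphismProperty.of_isPullback hpb inferInstance
    exact ExtComm.comm _ _ _ ((Over.pullback c).map p) ((Over.pullback c).map i) (isKernel_of_ker (h.bc c))
      (bc c hN) (bc c hQ) (isConnected_bc hs)
  · exact hs

end K201.ExtMain
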