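import Groth.Agent.SGA3x.K201.TorsScheme

/-!
# Flat groups with fibres of multiplicative type and locally constant torsion orders
-/

set_option autoImplicit false

universe u

open CategoryTheory MonoidalCategory CartesianMonoidalCategory MonObj GrpObj AlgebraicGeometry Limits
open TensorProduct
open Groth.Agent Groth.Agent.Books.AffBridge Groth.Agent.Sga3A Groth.Agent.Sga3B
open K12.DensePow SGA3b K10.MTLoc

namespace K201.TorsOrder

open TorsScheme TorsGen TorsFib FibRes

variable {S : Scheme.{u}}

theorem isMultType_of_isMultTypeFT {R A : Type u} [CommRing R] [CommRing A] [HopfAlgebra R A]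
    (h : SGA3x.IsMultTypeFT (SpecOver R A)) : IsMultType R A :=
  FibSpread.isMultType_of_isQuasiIsotrivial (K13.MTHopf.isQuasiIsotrivial_of_isMultTypeFT h)

theorem finitePresentation_of_isMultTypeFT {R A : Type u} [CommRing R] [CommRing A] [HopfAlgebra R A]
    (h : SGA3x.IsMultTypeFT (SpecOver R A)) : Algebra.FinitePresentation R A := by
  have h2 : LocallyOfFinitePresentation (Spec.map (CommRingCat.ofHom (algebraMap R A))) :=
    locallyOfFinitePresentation h
  rw [HasRingHomProperty.Spec_iff (P := @LocallyOfFinitePresentation)] at h2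
  simp only [CommRingCat.hom_ofHom] at h2
  exact RingHom.finitePresentation_algebraMap.mp h2

lemma flat_of_field (k K : Type u) [Field k] [Field K] [Algebra k K] :
    Flat (Spec.map (CommRingCat.ofHom (algebraMap k K))) := by
  rw [HasRingHomProperty.Spec_iff (P := @Flat)]
  exact RingHom.flat_algebraMap_iff.mpr inferInstance

lemma surjective_of_field (k K : Type u) [Field k] [Field K] [Algebra k K] :
    Surjective (Spec.map (CommRingCat.ofHom (algebraMap k K))) :=
  ⟨fun _ => ⟨IsLocalRing.closedPoint K, Subsingleton.elim (α := PrimeSpectrum k) _ _⟩⟩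

theorem exists_hopf' {k : Type u} [CommRing k] {S : Scheme.{u}} {H : Over S} [GrpObj H] (hH : IsAffineHom H.hom)
    (c : Spec (CommRingCat.of k) ⟶ S) :
    ∃ (A : Type u) (_ : CommRing A) (_ : HopfAlgebra k A), Nonempty (Grp.mk (Red.bc c H) ≅ Grp.mk (SpecOver k A)) := by
  have h1 : IsAffineHom (Red.bc c H).hom := inferInstanceAs (IsAffineHom (pullback.snd H.hom c))
  have haff : IsAffine (Red.bc c H).left := isAffine_of_isAffineHom (Red.bc c H).hom
  obtain ⟨B, _, _, eB, heB⟩ := exists_hopf k (Red.bc c H)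
  exact ⟨B, inferInstance, inferInstance, ⟨Grp.mkIso' eB⟩⟩

/-- the group over `k` is of multiplicative type as soon as it is so over an extension -/
theorem isMultTypeFT_of_field {k K : Type u} [Field k] [Field K] [Algebra k K] {S : Scheme.{u}} {H : Over S} [GrpObj H]
    (c : Spec (CommRingCat.of k) ⟶ S)
    (h : SGA3x.IsMultTypeFT (Red.bc (Spec.map (CommRingCat.ofHom (algebraMap k K)) ≫ c) H)) :
    SGA3x.IsMultTypeFT (Red.bc c H) := by
  have hfl := flat_of_field k K
  have hs := surjective_of_field k K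
  refine of_bc (Spec.map (CommRingCat.ofHom (algebraMap k K)))
    (fun V hV => ⟨(Spec.map (CommRingCat.ofHom (algebraMap k K))) ⁻¹ᵁ V, ?_, ?_⟩) ?_
  · exact (hV.preimage _).isCompact
  · exact Set.image_preimage_eq _ hs.surj
  · exact of_iso (BcIso.bcCompIso _ c H) h

theorem card_eq {H : Over S} [GrpObj H] {k : Type u} [Field k] (c : Spec (CommRingCat.of k) ⟶ S)
    (hft : SGA3x.IsMultTypeFT (Red.bc c H))
    (hHa : IsAffineHom H.hom) {L : Type u} [Field L] (g : Spec (CommRingCat.of L) ⟶ Spec (CommRingCat.of k))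
    {C : Type u} [CommRing C] [HopfAlgebra L C]
    (eC : Grp.mk (Red.bc (g ≫ c) H) ≅ Grp.mk (SpecOver L C))
    {N : Type u} [CommGroup N] [Group.FG N] (e : C ≃ₐc[L] MonoidAlgebra L N) (n : ℕ) (hn : 0 < n)
    (x : Spec (CommRingCat.of k)) :
    (pullback.snd (z H n ≫ H.hom) c).finrank x = Nat.card (Q N n) := by
  obtain ⟨B, _, _, ⟨eB⟩⟩ := exists_hopf' hHa c
  have hB : SGA3x.IsMultTypeFT (SpecOver k B) := of_iso eB hft
  have hB1 := isMultType_of_isMultTypeFT hB
  have hB2 := finitePresentation_of_isMultTypeFT hB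
  have hfin := TorsTriv.finite_torsion hB1 n hn
  rw [finrank_fiber H n c x B eB hfin]
  let _ : Algebra k L := (Spec.preimage g).hom.toAlgebra
  have hg : Spec.map (CommRingCat.ofHom (algebraMap k L)) = g := Spec.map_preimage g
  obtain ⟨b⟩ := Hens.Dict.bc_specOver k B L
  rw [hg] at b
  obtain ⟨β⟩ := (Hens.Dict.nonempty_bialgEquiv L (L ⊗[k] B) C).mp
    ⟨b.symm ≪≫ (BcIso.bcMapIso g eB).symm ≪≫ (BcIso.bcCompIso g c H).symm ≪≫ eC⟩
  rw [← card_Q (β.trans e) n hn, Module.finrank_baseChange]

/-- every field-valued point factors through the residue field -/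
lemma exists_factor_field {S : Scheme.{u}} {L : Type u} [Field L] (f : Spec (CommRingCat.of L) ⟶ S) :
    ∃ g : Spec (CommRingCat.of L) ⟶ Spec (S.residueField (f (IsLocalRing.closedPoint L))),
      g ≫ S.fromSpecResidueField _ = f :=
  ⟨_, Scheme.descResidueField_stalkClosedPointTo_fromSpecResidueField L S f⟩

/-- **Flat groups with fibres of multiplicative type and locally constant orders of the torsion kernels.** -/
theorem main {H : Over S} [GrpObj H] (hHa : IsAffineHom H.hom) (hHfl : Flat H.hom)
    (hHfp : LocallyOfFinitePresentation H.hom)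
    (hfib : ∀ s : S, SGA3x.IsMultTypeFT (Red.geomFibre s H))
    (hord : ∀ n : ℕ, 0 < n → ∃ d : S → ℕ, IsLocallyConstant d ∧ ∀ (s : S)
      (x : ↥(Spec (S.residueField s))),
      ((pullback.snd η[H].left (𝟙 H ^ n : H ⟶ H).left ≫ H.hom).fiberToSpecResidueField s).finrank x = d s) :
    SGA3x.IsMultTypeFT H := by
  have hfib' : ∀ s : S, SGA3x.IsMultTypeFT (Red.bc (S.fromSpecResidueField s) H) := fun s =>
    isMultTypeFT_of_field (k := S.residueField s) (K := AlgebraicClosure (S.residueField s))
      (S.fromSpecResidueField s) (hfib s)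
  refine of_etale fun s => ?_
  obtain ⟨R, _, j, hj, -, x₀, hx₀⟩ := NearRed.exists_affine S ⊤ s trivial
  refine ⟨_, j, inferInstance, ⟨x₀, hx₀⟩, ?_⟩
  obtain ⟨A, _, _, ⟨eA⟩⟩ := exists_hopf' hHa j
  refine of_iso eA.symm ?_
  have hcomp : (Red.bc j H).hom = eA.hom.hom.hom.left ≫ (SpecOver R A).hom := (Over.w _).symm
  have hiso : IsIso eA.inv.hom.hom.left := by
    have : IsIso eA.inv.hom.hom := ⟨eA.hom.hom.hom, congrArg (fun k => k.hom.hom) eA.inv_hom_id,
      congrArg (fun k => k.hom.hom) eA.hom_inv_id⟩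
    exact inferInstanceAs (IsIso ((Over.forget _).map eA.inv.hom.hom))
  have hw : eA.inv.hom.hom.left ≫ pullback.snd H.hom j = Spec.map (CommRingCat.ofHom (algebraMap R A)) :=
    Over.w eA.inv.hom.hom
  have hfl : Module.Flat R A := by
    have h0 : Flat (pullback.snd H.hom j) := inferInstance
    have h1 : Flat (Spec.map (CommRingCat.ofHom (algebraMap R A))) := by
      rw [← hw]
      exact (MorphismProperty.cancel_left_of_respectsIso @Flat eA.inv.hom.hom.left (pullback.snd H.hom j)).mpr h0
    rw [HasRingHomProperty.Spec_iff (P := @Flat)] at h1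
    exact RingHom.flat_algebraMap_iff.mp h1
  have hfp : Algebra.FinitePresentation R A := by
    have h0 : LocallyOfFinitePresentation (pullback.snd H.hom j) := inferInstance
    have h1 : LocallyOfFinitePresentation (Spec.map (CommRingCat.ofHom (algebraMap R A))) := by
      rw [← hw]
      exact (MorphismProperty.cancel_left_of_respectsIso @LocallyOfFinitePresentation eA.inv.hom.hom.left
        (pullback.snd H.hom j)).mpr h0
    rw [HasRingHomProperty.Spec_iff (P := @LocallyOfFinitePresentation)] at h1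
    simp only [CommRingCat.hom_ofHom] at h1
    exact RingHom.finitePresentation_algebraMap.mp h1
  -- base change to field-valued points
  have hbc : ∀ (L : Type u) [Field L] [Algebra R L],
      Nonempty (Grp.mk (Red.bc (Spec.map (CommRingCat.ofHom (algebraMap R L)) ≫ j) H) ≅
        Grp.mk (SpecOver L (L ⊗[R] A))) := by
    intro L _ _
    obtain ⟨b⟩ := Hens.Dict.bc_specOver R A L
    exact ⟨BcIso.bcCompIso _ j H ≪≫ BcIso.bcMapIso _ eA ≪≫ b⟩
  have hall : AllFib R A := by
    intro L _ _
    obtain ⟨b⟩ := hbc L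
    obtain ⟨g, hg⟩ := exists_factor_field (Spec.map (CommRingCat.ofHom (algebraMap R L)) ≫ j)
    refine isMultType_of_isMultTypeFT (of_iso b ?_)
    rw [← hg]
    exact of_iso (BcIso.bcCompIso g _ H).symm (bc g (hfib' _))
  refine K13.MTHopf.isMultTypeFT_of_isMultType (isMultType_of_ordLe R A hfp hall ?_)
    (fun T _ _ => inferInstance)
  intro n hn L L' _ _ _ _ N N' _ _ _ _ hk e e'
  obtain ⟨d, hd, hd'⟩ := hord n hn
  have key : ∀ (L : Type u) [Field L] [Algebra R L] (N : Type u) [CommGroup N] [Group.FG N]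
      (_ : (L ⊗[R] A) ≃ₐc[L] MonoidAlgebra L N),
      Nat.card (Q N n) = d (j (Spec.map (CommRingCat.ofHom (algebraMap R L)) (IsLocalRing.closedPoint L))) := by
    intro L _ _ N _ _ e
    obtain ⟨b⟩ := hbc L
    obtain ⟨g, hg⟩ := exists_factor_field (Spec.map (CommRingCat.ofHom (algebraMap R L)) ≫ j)
    rw [← hg] at b
    have h1 := card_eq (k := S.residueField _) (S.fromSpecResidueField _) (hfib' _) hHa g b e n hn
      (IsLocalRing.closedPoint _)
    rw [← h1]
    exact hd' _ _
  rw [key L N e, key L' N' e']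
  apply le_of_eq
  have hsp : (Spec.map (CommRingCat.ofHom (algebraMap R L)) (IsLocalRing.closedPoint L)) ⤳
      (Spec.map (CommRingCat.ofHom (algebraMap R L')) (IsLocalRing.closedPoint L')) := by
    have h1 : ∀ (L : Type u) [Field L] [Algebra R L], PrimeSpectrum.asIdeal
        (Spec.map (CommRingCat.ofHom (algebraMap R L)) (IsLocalRing.closedPoint L)) =
        RingHom.ker (algebraMap R L) := by
      intro L _ _
      change Ideal.comap (algebraMap R L) (IsLocalRing.maximalIdeal L) = _
      rw [IsLocalRing.maximalIdeal_eq_bot]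
      rfl
    refine (PrimeSpectrum.le_iff_specializes _ _).mp ?_
    change PrimeSpectrum.asIdeal _ ≤ PrimeSpectrum.asIdeal _
    rw [h1, h1]
    exact hk
  exact ((hsp.map j.continuous).map hd.continuous).eq

end K201.TorsOrder
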