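import Groth.Agent.SGA3x.K201.CentSplit

/-!
# Centralizers of smooth groups of multiplicative type, without separation hypothesis: main theorem
-/

set_option autoImplicit false
universe u
open CategoryTheory MonoidalCategory CartesianMonoidalCategory MonObj GrpObj AlgebraicGeometry Limits Opposite

namespace K201.CentMain

open Groth.Agent Groth.Agent.Sga3B CentDesc CentMu CentSec CentSplit

variable {S : Scheme.{u}}

lemma cn_iso_iff {G Q Q' : Over S} [GrpObj G] (e : Q' ≅ Q) (i : Q ⟶ G) {X : Over S} (g : X ⟶ G) :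
    Cn (e.hom ≫ i) g ↔ Cn i g := by
  constructor
  · intro h X' x a
    have := h X' x (a ≫ e.inv)
    rwa [Category.assoc, e.inv_hom_id_assoc] at this
  · intro h X' x a
    rw [← Category.assoc]
    exact h X' x _

lemma symm_comp {M N : Type} [AddCommGroup M] [AddCommGroup N] (f : M ≃+ N) :
    f.symm.toAddMonoidHom.comp f.toAddMonoidHom = AddMonoidHom.id M :=
  AddMonoidHom.ext fun x => f.symm_apply_apply x

/-- Isomorphic character groups give isomorphic diagonalizable groups. -/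
noncomputable def dsIso (S : Scheme.{u}) {M N : Type} [AddCommGroup M] [AddCommGroup N] (f : M ≃+ N) :
    Red.DS S N ≅ Red.DS S M where
  hom := Red.DSmap S f.toAddMonoidHom
  inv := Red.DSmap S f.symm.toAddMonoidHom
  hom_inv_id := by
    rw [DSmap_comp]
    exact (congrArg (Red.DSmap S) (symm_comp f.symm)).trans DSmap_id
  inv_hom_id := by
    rw [DSmap_comp]
    exact (congrArg (Red.DSmap S) (symm_comp f)).trans DSmap_id

lemma isMonHom_dsIso (S : Scheme.{u}) {M N : Type} [AddCommGroup M] [AddCommGroup N] (f : M ≃+ N) :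
    IsMonHom (dsIso S f).hom := K16.TorsCent.isMonHom_DSmap _

theorem exists_rep_iso {B : Type u} [CommRing B] {r : ℕ} {Q : Type} [AddCommGroup Q] [Finite Q]
    (hu : IsUnit ((Nat.card Q : ℕ) : B)) {ζ : B} (h1 : ζ ^ (Nat.card Q) = 1)
    (h2 : ∀ k : ℕ, ¬ Nat.card Q ∣ k → IsUnit (ζ ^ k - 1)) {G H D : Over (Spec (CommRingCat.of B))} [GrpObj G]
    [GrpObj H] [GrpObj D] [LocallyOfFiniteType G.hom] [QuasiSeparated G.hom]
    (ψ : Red.DS (Spec (CommRingCat.of B)) ((Fin r → ℤ) × Q) ≅ D) (hψ : IsMonHom ψ.hom) (φ : H ≅ D)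
    (hφ : IsMonHom φ.inv) (k : H ⟶ G)
    (hk : IsMonHom k) (hk' : Mono k) :
    ∃ (C : Over (Spec (CommRingCat.of B))) (c : C ⟶ G), IL c.left ∧ Rep k c := by
  have h3 : IsMonHom (ψ.hom ≫ φ.inv ≫ k) := inferInstance
  have h4 : Mono (ψ.hom ≫ φ.inv ≫ k) := mono_comp _ _
  obtain ⟨C, c, hc, hc'⟩ := exists_rep_DS hu h1 h2 (ψ.hom ≫ φ.inv ≫ k)
  exact ⟨C, c, hc, fun T g => by
    rw [hc', cn_iso_iff]
    exact cn_iso_iff φ.symm k g⟩

/-- **Representability.** -/
theorem exists_rep_main {G H : Over S} [GrpObj G] [GrpObj H] [LocallyOfFiniteType G.hom] [QuasiSeparated G.hom]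
    (h : H ⟶ G) [IsMonHom h] [Mono h] [Smooth H.hom] (hH : SGA3x.IsMultTypeFT H) :
    ∃ (C : Over S) (c : C ⟶ G), Mono c ∧ QuasiCompact c.left ∧ LocallyOfFinitePresentation c.left ∧ Rep h c := by
  refine exists_rep fun s => ?_
  obtain ⟨B, _, v, M, _, hv, ⟨y, hy⟩, hM, ⟨e⟩⟩ := K10.MTLoc.exists_etale_split hH s
  have hs : Smooth (Red.DS (Spec (CommRingCat.of B)) M).hom := by
    have : Smooth (Red.bc v H).hom := inferInstanceAs (Smooth (pullback.snd H.hom v))
    exact TorusAlgClosed.prop_of_grp_iso (P := @Smooth) e.symm this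
  obtain ⟨r, Q, _, _, ⟨f⟩⟩ := exists_prod M
  have hu := isUnit_card (f.symm.toAddMonoidHom.comp (AddMonoidHom.inr (Fin r → ℤ) Q)) (by
    intro a b hab
    have h1 := f.symm.injective hab
    exact congrArg Prod.snd h1) hs
  have hnt : Nontrivial B := by
    by_contra hcon
    rw [not_nontrivial_iff_subsingleton] at hcon
    exact (inferInstance : IsEmpty (PrimeSpectrum B)).false y
  obtain ⟨B', _, _, hff, hfp, ζ, hζ1, hζ2⟩ := CentRoot.exists_root B (Nat.card_pos (α := Q)) hu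
  let w : Spec (CommRingCat.of B') ⟶ Spec (CommRingCat.of B) := Spec.map (CommRingCat.ofHom (algebraMap B B'))
  have hw1 : Flat w := by
    change Flat (Spec.map _)
    rw [HasRingHomProperty.Spec_iff (P := @Flat)]
    exact RingHom.flat_algebraMap_iff.2 inferInstance
  have hw2 : LocallyOfFinitePresentation w := by
    change LocallyOfFinitePresentation (Spec.map _)
    rw [HasRingHomProperty.Spec_iff (P := @LocallyOfFinitePresentation)]
    exact RingHom.finitePresentation_algebraMap.2 hfp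
  have hw3 : Function.Surjective w := PrimeSpectrum.comap_surjective_of_faithfullyFlat
  have hu' : IsUnit ((Nat.card Q : ℕ) : B') := by
    have := hu.map (algebraMap B B')
    rwa [map_natCast] at this
  let φ : Grp.mk (Red.bc (w ≫ v) H) ≅ Grp.mk (Red.DS (Spec (CommRingCat.of B')) M) :=
    BcIso.bcCompIso w v H ≪≫ BcIso.bcMapIso w e ≪≫ TorusAlgClosed.dsBcIso w M
  let φ₁ : Red.bc (w ≫ v) H ≅ Red.DS (Spec (CommRingCat.of B')) M := (Grp.forget _).mapIso φ
  have hφ₁ : IsMonHom φ₁.inv := φ.inv.hom.isMonHom_hom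
  let ψ : Red.DS (Spec (CommRingCat.of B')) ((Fin r → ℤ) × Q) ≅ Red.DS (Spec (CommRingCat.of B')) M := dsIso _ f
  have hψ : IsMonHom ψ.hom := isMonHom_dsIso _ f
  have hG1 : LocallyOfFiniteType (Red.bc (w ≫ v) G).hom :=
    inferInstanceAs (LocallyOfFiniteType (pullback.snd G.hom (w ≫ v)))
  have hG2 : QuasiSeparated (Red.bc (w ≫ v) G).hom :=
    inferInstanceAs (QuasiSeparated (pullback.snd G.hom (w ≫ v)))
  obtain ⟨C, c, hc, hc'⟩ := exists_rep_iso hu' hζ1 hζ2 ψ hψ φ₁ hφ₁ ((Over.pullback (w ≫ v)).map h)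
    inferInstance inferInstance
  refine ⟨Spec (CommRingCat.of B'), w ≫ v, inferInstance, inferInstance, ?_, C, c, hc.imm, hc.qc, hc.lfp, hc'⟩
  obtain ⟨y', hy'⟩ := hw3 y
  exact ⟨y', by rw [Scheme.Hom.comp_apply, hy', hy]⟩

theorem main (G : Over S) [GrpObj G] [QuasiCompact G.hom] [QuasiSeparated G.hom] [LocallyOfFinitePresentation G.hom]
    (H : Over S) [GrpObj H] (h : H ⟶ G) [IsMonHom h] [Mono h] [Smooth H.hom] (hH : SGA3x.IsMultTypeFT H) :
    ∃ (C : Over S) (_ : GrpObj C) (c : C ⟶ G), Red.IsCentralizerOf h c ∧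
      QuasiCompact C.hom ∧ QuasiSeparated C.hom ∧ LocallyOfFinitePresentation C.hom := by
  obtain ⟨C, c, hm, h1, h2, hr⟩ := exists_rep_main h hH
  obtain ⟨i1, i2⟩ := Sga3B.CentRep.exists_grpObj c (Sga3B.CentRep.centPts h) hr
  have hw : c.left ≫ G.hom = C.hom := Over.w c
  have hml : Mono c.left := inferInstanceAs (Mono ((Over.forget _).map c))
  refine ⟨C, i1, c, ⟨i2, hm, hr⟩, ?_, ?_, ?_⟩
  · rw [← hw]; infer_instance
  · rw [← hw]
    have : QuasiSeparated c.left := inferInstance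
    infer_instance
  · rw [← hw]; infer_instance

end K201.CentMain
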