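import Groth.Agent.Sga3.H828.FpqcRep2
import Groth.Agent.Sga3B.BcPts
import Groth.Agent.Desc.ImmersionDescent
import Groth.Prelude.Def_Red2

/-!
# Descent of the representability of a centralizer

`exists_rep`: if, flat-locally on `S`, the centralizer of `i : H ⟶ G` is represented by a quasi-compact immersion
locally of finite presentation, then it is represented by a quasi-compact monomorphism locally of finite
presentation.
-/

set_option autoImplicit false
set_option backward.isDefEq.respectTransparency false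
set_option backward.isDefEq.respectTransparency.types false
universe u
open CategoryTheory MonoidalCategory CartesianMonoidalCategory MonObj GrpObj AlgebraicGeometry Limits Opposite

namespace K201.CentDesc

open Groth.Agent Groth.Agent.Desc.SecFunctor Groth.Agent.Desc.SecPresheaf Groth.Agent.Desc.SecDescent
  Groth.Agent.Picfga.OverRep Groth.Agent.Desc.ZarGlue Groth.Agent.Ega2.QuasiAffine Groth.Agent.Sga3B.BcPts

variable {S : Scheme.{u}}

/-- `g` centralizes `i : Q ⟶ G`. -/
def Cn {G Q : Over S} [GrpObj G] (i : Q ⟶ G) {X : Over S} (g : X ⟶ G) : Prop :=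
  ∀ (X' : Over S) (x : X' ⟶ X) (h : X' ⟶ Q), (x ≫ g) * (h ≫ i) = (h ≫ i) * (x ≫ g)

variable {G Q : Over S} [GrpObj G] {i : Q ⟶ G}

lemma Cn.pre {X Y : Over S} {g : X ⟶ G} (hg : Cn i g) (y : Y ⟶ X) : Cn i (y ≫ g) := by
  intro X' x h
  have := hg X' (x ≫ y) h
  rwa [Category.assoc] at this

/-- Centralizing can be tested on a universally jointly epimorphic family. -/
lemma cn_of_family {X : Over S} {g : X ⟶ G} {κ : Type*} (Y : κ → Over S) (y : ∀ k, Y k ⟶ X)
    (hj : ∀ (X' : Over S) (x : X' ⟶ X) (a b : X' ⟶ G),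
      (∀ (k : κ) (Z : Over S) (z : Z ⟶ X') (w : Z ⟶ Y k), w ≫ y k = z ≫ x → z ≫ a = z ≫ b) → a = b)
    (h : ∀ k, Cn i (y k ≫ g)) : Cn i g := by
  intro X' x q
  refine hj X' x _ _ fun k Z z w e => ?_
  have h1 := h k Z w (z ≫ q)
  rw [MonObj.comp_mul, MonObj.comp_mul]
  rw [← Category.assoc w, e] at h1
  simpa only [Category.assoc] using h1

lemma cn_of_flat {X Y : Over S} {g : X ⟶ G} (y : Y ⟶ X) [Flat y.left] [Surjective y.left] [QuasiCompact y.left]
    (h : Cn i (y ≫ g)) : Cn i g := by
  refine cn_of_family (fun _ : PUnit.{1} => Y) (fun _ => y) (fun X' x a b H => ?_) fun _ => h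
  let Z : Over S := Over.mk (pullback.fst x.left y.left ≫ X'.hom)
  let z : Z ⟶ X' := Over.homMk (pullback.fst x.left y.left) rfl
  let w : Z ⟶ Y := Over.homMk (pullback.snd x.left y.left) (by
    change _ = pullback.fst x.left y.left ≫ X'.hom
    rw [← Over.w x, ← Over.w y, pullback.condition_assoc])
  have h1 := H ⟨⟩ Z z w (by
    ext1
    exact pullback.condition.symm)
  have hz1 : Flat z.left := inferInstanceAs (Flat (pullback.fst x.left y.left))
  have hz2 : Surjective z.left := inferInstanceAs (Surjective (pullback.fst x.left y.left))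
  have hz3 : QuasiCompact z.left := inferInstanceAs (QuasiCompact (pullback.fst x.left y.left))
  have hz : Epi z.left := Flat.epi_of_flat_of_surjective _
  have hz' : Epi z := Over.epi_of_epi_left _
  exact (cancel_epi z).1 h1

lemma cn_of_open {X : Over S} {g : X ⟶ G} {κ : Type u} (Y : κ → Over S) (y : ∀ k, Y k ⟶ X)
    [∀ k, IsOpenImmersion (y k).left] (hc : ∀ t : X.left, ∃ (k : κ) (v : (Y k).left), (y k).left v = t)
    (h : ∀ k, Cn i (y k ≫ g)) : Cn i g := by
  refine cn_of_family Y y (fun X' x a b H => ?_) h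
  ext1
  let 𝒰 : Scheme.OpenCover.{u} X.left :=
    { I₀ := κ
      X := fun k => (Y k).left
      f := fun k => (y k).left
      mem₀ := by
        rw [Scheme.presieve₀_mem_precoverage_iff]
        exact ⟨fun t => hc t, inferInstance⟩ }
  refine Scheme.Cover.hom_ext (𝒰.pullback₁ x.left) _ _ fun k => ?_
  let Z : Over S := Over.mk (pullback.fst x.left (y k).left ≫ X'.hom)
  let z : Z ⟶ X' := Over.homMk (pullback.fst x.left (y k).left) rfl
  let w : Z ⟶ Y k := Over.homMk (pullback.snd x.left (y k).left) (by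
    change _ = pullback.fst x.left (y k).left ≫ X'.hom
    rw [← Over.w x, ← Over.w (y k), pullback.condition_assoc])
  have h1 := H k Z z w (by
    ext1
    exact pullback.condition.symm)
  exact congrArg CommaMorphism.left h1

/-- The point of `G` defined by a scheme over `G`. -/
noncomputable abbrev pt {G : Over S} (T : Over G.left) : Over.mk (T.hom ≫ G.hom) ⟶ G := Over.homMk T.hom rfl

lemma pt_map {G : Over S} {T' T : Over G.left} (t : T' ⟶ T) :
    (Over.homMk t.left (by change t.left ≫ T.hom ≫ G.hom = T'.hom ≫ G.hom; rw [← Category.assoc, Over.w t]) :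
      Over.mk (T'.hom ≫ G.hom) ⟶ Over.mk (T.hom ≫ G.hom)) ≫ pt T = pt T' := by
  ext1
  exact Over.w t

/-- The condition of centralizing `i`, as a presheaf on schemes over `G`. -/
noncomputable def F (i : Q ⟶ G) : (Over G.left)ᵒᵖ ⥤ Type u where
  obj T := {_x : PUnit.{u + 1} // Cn i (pt T.unop)}
  map {T T'} t := ↾(fun p => ⟨⟨⟩, by
    have h := p.2.pre (Over.homMk t.unop.left (by
      change t.unop.left ≫ T.unop.hom ≫ G.hom = T'.unop.hom ≫ G.hom
      rw [← Category.assoc, Over.w t.unop]) : Over.mk (T'.unop.hom ≫ G.hom) ⟶ Over.mk (T.unop.hom ≫ G.hom))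
    rwa [pt_map] at h⟩)
  map_id T := by
    apply ConcreteCategory.hom_ext
    intro φ
    exact Subsingleton.elim _ _
  map_comp a b := by
    apply ConcreteCategory.hom_ext
    intro φ
    exact Subsingleton.elim _ _

instance (T : (Over G.left)ᵒᵖ) : Subsingleton ((F i).obj T) := ⟨fun _ _ => Subtype.ext rfl⟩

lemma isZarSheaf_F : IsZarSheaf (F i) := by
  intro T 𝒰 x _
  have h : Cn i (pt T) := by
    let y : ∀ k, Over.mk ((𝒰.V k).hom ≫ G.hom) ⟶ Over.mk (T.hom ≫ G.hom) := fun k => Over.homMk (𝒰.j k).left (by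
      change (𝒰.j k).left ≫ T.hom ≫ G.hom = (𝒰.V k).hom ≫ G.hom
      rw [← Category.assoc, Over.w (𝒰.j k)])
    have hy : ∀ k, IsOpenImmersion (y k).left := fun k => 𝒰.isOpen k
    refine cn_of_open _ y 𝒰.covers fun k => ?_
    rw [pt_map]
    exact (x k).2
  exact ⟨⟨⟨⟩, h⟩, fun k => Subsingleton.elim _ _, fun _ _ => Subsingleton.elim _ _⟩

lemma isDesc_F {T' T : Over G.left} (g : T' ⟶ T) (h1 : Flat g.left) (h2 : Surjective g.left)
    (h3 : QuasiCompact g.left) : IsDesc (F i) g := by
  constructor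
  · intro p q _
    exact Subsingleton.elim _ _
  · intro p _
    refine ⟨⟨⟨⟩, ?_⟩, Subsingleton.elim _ _⟩
    let y : Over.mk (T'.hom ≫ G.hom) ⟶ Over.mk (T.hom ≫ G.hom) := Over.homMk g.left (by
      change g.left ≫ T.hom ≫ G.hom = T'.hom ≫ G.hom
      rw [← Category.assoc, Over.w g])
    have hy : Cn i (y ≫ pt T) := by
      rw [pt_map]
      exact p.2
    have i1 : Flat y.left := h1
    have i2 : Surjective y.left := h2
    have i3 : QuasiCompact y.left := h3
    exact cn_of_flat y hy

/-- Centralizing and base change. -/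
lemma cn_bc_iff {S' : Scheme.{u}} (v : S' ⟶ S) {T : Over S'} (g : (Over.map v).obj T ⟶ G) :
    Cn ((Over.pullback v).map i) (bcEquiv v T G g) ↔ Cn i g := by
  constructor
  · intro hg X' x h
    let T' : Over S' := Over.mk (x.left ≫ T.hom)
    let e : (Over.map v).obj T' ⟶ X' := Over.homMk (𝟙 _) (by
      change 𝟙 _ ≫ X'.hom = (x.left ≫ T.hom) ≫ v
      rw [Category.id_comp, Category.assoc]
      exact (Over.w x).symm)
    have he : IsIso e := by
      have : IsIso ((Over.forget S).map e) := inferInstanceAs (IsIso (𝟙 X'.left))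
      exact isIso_of_reflects_iso e (Over.forget S)
    let t : T' ⟶ T := Over.homMk x.left rfl
    have ht : (Over.map v).map t = e ≫ x := by
      ext1
      exact (Category.id_comp _).symm
    have h1 := hg T' t (bcEquiv v T' Q (e ≫ h))
    rw [← comp_bcEquiv, ← bcEquiv_comp, ← bcEquiv_mul, ← bcEquiv_mul] at h1
    have h2 := (bcEquiv v T' G).injective h1
    rw [ht, Category.assoc, Category.assoc, ← MonObj.comp_mul, ← MonObj.comp_mul] at h2
    exact (cancel_epi e).1 h2
  · intro hg T' t h
    have h1 := hg ((Over.map v).obj T') ((Over.map v).map t) ((bcEquiv v T' Q).symm h)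
    have h2 := congrArg (bcEquiv v T' G) h1
    rw [bcEquiv_mul, bcEquiv_mul, comp_bcEquiv, bcEquiv_comp, Equiv.apply_symm_apply] at h2
    exact h2

/-- The centralizer of `i` is represented by `c` -/
def Rep (i : Q ⟶ G) {C : Over S} (c : C ⟶ G) : Prop :=
  ∀ (T : Over S) (g : T ⟶ G), (∃ z, z ≫ c = g) ↔ Cn i g

/-- Quasi-compact and locally of finite presentation. -/
abbrev QL : MorphismProperty Scheme.{u} := @QuasiCompact ⊓ @LocallyOfFinitePresentation

lemma cn_iff_of_left {X Y : Over S} (g : X ⟶ G) (g' : Y ⟶ G) (e : X.left ≅ Y.left) (he : e.hom ≫ g'.left = g.left) :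
    Cn i g ↔ Cn i g' := by
  have h1 : e.hom ≫ Y.hom = X.hom := by
    rw [← Over.w g', ← Category.assoc, he, Over.w]
  have h2 : e.inv ≫ X.hom = Y.hom := by
    rw [← h1, ← Category.assoc, e.inv_hom_id, Category.id_comp]
  constructor
  · intro h
    have h3 := h.pre (Over.homMk e.inv h2 : Y ⟶ X)
    convert h3 using 1
    ext1
    change _ = e.inv ≫ g.left
    rw [← he, ← Category.assoc, e.inv_hom_id, Category.id_comp]
  · intro h
    have h3 := h.pre (Over.homMk e.hom h1 : X ⟶ Y)
    convert h3 using 1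
    ext1
    exact he.symm

/-- the presheaf is represented over `v` by the local centralizer -/
lemma exists_repr {S' : Scheme.{u}} (v : S' ⟶ S) {C : Over S'} (c : C ⟶ Red.bc v G) [Mono c]
    (hc : Rep ((Over.pullback v).map i) c) :
    Nonempty ((restr (pullback.fst G.hom v ≫ 𝟙 G.left) (F i)).RepresentableBy (Over.mk c.left)) := by
  have hmono : Mono c.left := inferInstanceAs (Mono ((Over.forget _).map c))
  have key : ∀ T : Over (Red.bc v G).left, (∃ z : T.left ⟶ C.left, z ≫ c.left = T.hom) ↔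
      Cn i (pt ((Over.map (pullback.fst G.hom v ≫ 𝟙 G.left)).obj T)) := by
    intro T
    let T' : Over S' := Over.mk (T.hom ≫ (Red.bc v G).hom)
    let g' : T' ⟶ Red.bc v G := Over.homMk T.hom rfl
    have h1 : (∃ z : T.left ⟶ C.left, z ≫ c.left = T.hom) ↔ ∃ z, z ≫ c = g' := by
      constructor
      · rintro ⟨z, hz⟩
        refine ⟨Over.homMk z ?_, by ext1; exact hz⟩
        change z ≫ C.hom = T.hom ≫ (Red.bc v G).hom
        rw [← hz, Category.assoc, Over.w c]
      · rintro ⟨z, hz⟩
        exact ⟨z.left, congrArg CommaMorphism.left hz⟩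
    rw [h1, hc T' g']
    have h2 := cn_bc_iff (i := i) v (T := T') ((bcEquiv v T' G).symm g')
    rw [Equiv.apply_symm_apply] at h2
    rw [h2]
    refine cn_iff_of_left _ _ (Iso.refl _) ?_
    have h3 : ((bcEquiv v T' G).symm g').left = g'.left ≫ pullback.fst G.hom v := by
      have := (Over.mapPullbackAdj v).homEquiv_counit (X := T') (Y := G) (g := g')
      change (((Over.mapPullbackAdj v).homEquiv T' G).symm g').left = _
      rw [this]
      simp
    rw [h3]
    change 𝟙 _ ≫ T.hom ≫ pullback.fst G.hom v ≫ 𝟙 _ = T.hom ≫ pullback.fst G.hom v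
    simp
  have hs : ∀ T : Over (Red.bc v G).left, Subsingleton (T ⟶ Over.mk c.left) := fun T => ⟨fun a b => by
    ext1
    rw [← cancel_mono c.left]
    exact (Over.w a).trans (Over.w b).symm⟩
  exact ⟨{ homEquiv := fun {T} =>
            { toFun := fun z => ⟨⟨⟩, (key T).1 ⟨z.left, Over.w z⟩⟩
              invFun := fun p => Over.homMk ((key T).2 p.2).choose ((key T).2 p.2).choose_spec
              left_inv := fun z => (hs T).elim _ _
              right_inv := fun p => Subtype.ext rfl }
           homEquiv_comp := fun _ _ => Subtype.ext rfl }⟩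

/-- **Descent of the representability of the centralizer.** -/
theorem exists_rep (hloc : ∀ s : S, ∃ (S' : Scheme.{u}) (v : S' ⟶ S) (_ : Flat v)
      (_ : LocallyOfFinitePresentation v) (_ : s ∈ Set.range v) (C : Over S') (c : C ⟶ Red.bc v G),
      IsImmersion c.left ∧ QuasiCompact c.left ∧ LocallyOfFinitePresentation c.left ∧
        Rep ((Over.pullback v).map i) c) :
    ∃ (C : Over S) (c : C ⟶ G), Mono c ∧ QuasiCompact c.left ∧ LocallyOfFinitePresentation c.left ∧ Rep i c := by
  obtain ⟨E, ⟨hE1, hE2⟩, ⟨r⟩⟩ := Sga3.H828.FpqcRep2.exists_rep_of_fpqcCover' (S := G.left) (F i) isZarSheaf_F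
    (fun g h1 h2 h3 => isDesc_F g h1 h2 h3) QL (𝟙 G.left) (by
      intro V hV
      exact ⟨V, hV.isCompact, by simp⟩) (by
      intro x
      obtain ⟨S', v, hv1, hv2, ⟨y, hy⟩, C, c, hc1, hc2, hc3, hc⟩ := hloc (G.hom x)
      have hm : Mono c := Over.mono_of_mono_left c
      refine ⟨(Red.bc v G).left, pullback.fst G.hom v, inferInstanceAs (Flat (pullback.fst G.hom v)),
        inferInstanceAs (LocallyOfFinitePresentation (pullback.fst G.hom v)), ?_,
        Over.mk c.left, ⟨hc2, hc3⟩, qaff_of_isImmersion c.left, exists_repr v c hc⟩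
      exact (Set.ext_iff.1 (Scheme.Pullback.range_fst (f := G.hom) (g := v)) x).2 ⟨y, hy⟩)
  let C : Over S := Over.mk (E.hom ≫ G.hom)
  let c : C ⟶ G := Over.homMk E.hom rfl
  have hrep : ∀ T : Over G.left, Nonempty (T ⟶ E) ↔ Cn i (pt T) := fun T =>
    ⟨fun ⟨z⟩ => (r.homEquiv z).2, fun h => ⟨r.homEquiv.symm ⟨⟨⟩, h⟩⟩⟩
  have hsub : ∀ T : Over G.left, Subsingleton (T ⟶ E) := fun T => ⟨fun a b => r.homEquiv.injective (Subtype.ext rfl)⟩
  have hm : Mono c := by
    constructor
    intro T a b hab
    have h1 : a.left ≫ E.hom = b.left ≫ E.hom := congrArg CommaMorphism.left hab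
    ext1
    have := (hsub (Over.mk (a.left ≫ E.hom))).elim (Over.homMk a.left rfl) (Over.homMk b.left h1.symm)
    exact congrArg (fun f => f.left) this
  refine ⟨C, c, hm, hE1, hE2, fun T g => ?_⟩
  have h1 := hrep (Over.mk g.left)
  have h2 : Cn i (pt (Over.mk g.left)) ↔ Cn i g := cn_iff_of_left _ _ (Iso.refl _) (Category.id_comp _)
  rw [← h2, ← h1]
  constructor
  · rintro ⟨z, hz⟩
    exact ⟨Over.homMk z.left (congrArg CommaMorphism.left hz)⟩
  · rintro ⟨z⟩
    refine ⟨Over.homMk z.left ?_, ?_⟩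
    · change z.left ≫ E.hom ≫ G.hom = T.hom
      rw [← Category.assoc, Over.w z]
      exact Over.w g
    · ext1
      exact Over.w z

end K201.CentDesc
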