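import Mathlib

/-!
# Adjoining roots of unity

`exists_root`: if `N` is invertible in `B`, there is a faithfully flat finite finitely presented `B`-algebra `B'`
with `ζ : B'`, `ζ ^ N = 1` and `ζ ^ k - 1` invertible for `k` not divisible by `N`.
-/

set_option autoImplicit false
universe u
open Polynomial

namespace K201.CentRoot

theorem isUnit_pow_sub_one {B : Type*} [CommRing B] {N : ℕ} (hN : 0 < N) (hu : IsUnit (N : B)) {ζ : B}
    (hζ : (cyclotomic N B).IsRoot ζ) : ζ ^ N = 1 ∧ ∀ k : ℕ, ¬ N ∣ k → IsUnit (ζ ^ k - 1) := by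
  have hp : Prime (cyclotomic N ℤ) := (cyclotomic.irreducible hN).prime
  have hdom : IsDomain (AdjoinRoot (cyclotomic N ℤ)) := AdjoinRoot.isDomain_of_prime hp
  have hdeg : (cyclotomic N ℤ).degree ≠ 0 := (degree_cyclotomic_pos N ℤ hN).ne'
  have hinj := AdjoinRoot.of.injective_of_degree_ne_zero hdeg
  have hcz : CharZero (AdjoinRoot (cyclotomic N ℤ)) := charZero_of_injective_ringHom hinj
  have hr : (cyclotomic N (AdjoinRoot (cyclotomic N ℤ))).IsRoot (AdjoinRoot.root (cyclotomic N ℤ)) := by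
    have := AdjoinRoot.isRoot_root (cyclotomic N ℤ)
    rwa [map_cyclotomic] at this
  have hprim := (isRoot_cyclotomic_iff_charZero hN).1 hr
  let φ : AdjoinRoot (cyclotomic N ℤ) →+* B := AdjoinRoot.lift (Int.castRingHom B) ζ (by
    rw [← eval_map, map_cyclotomic]
    exact hζ)
  have hφ : φ (AdjoinRoot.root (cyclotomic N ℤ)) = ζ := AdjoinRoot.lift_root _
  have h1 : ζ ^ N = 1 := by
    rw [← hφ, ← map_pow, hprim.pow_eq_one, map_one]
  refine ⟨h1, fun k hk => ?_⟩
  obtain ⟨m, rfl⟩ : ∃ m, N = m + 1 := ⟨N - 1, by omega⟩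
  obtain ⟨j, hj⟩ : ∃ j, k % (m + 1) = j + 1 := by
    have : k % (m + 1) ≠ 0 := fun h => hk (Nat.dvd_of_mod_eq_zero h)
    exact ⟨k % (m + 1) - 1, by omega⟩
  have hjm : j < m := by
    have := Nat.mod_lt k hN
    omega
  have h2 : ζ ^ k = ζ ^ (j + 1) := by
    conv_lhs => rw [← Nat.div_add_mod k (m + 1), pow_add, pow_mul, h1, one_pow, one_mul, hj]
  have h3 := congrArg φ hprim.prod_one_sub_pow_eq_order
  rw [map_prod] at h3
  have h4 : (1 - ζ ^ (j + 1)) ∣ ((m + 1 : ℕ) : B) := by
    have : ((m + 1 : ℕ) : B) = φ ((m : AdjoinRoot (cyclotomic (m + 1) ℤ)) + 1) := by simp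
    rw [this, ← h3]
    have h5 : φ (1 - AdjoinRoot.root (cyclotomic (m + 1) ℤ) ^ (j + 1)) = 1 - ζ ^ (j + 1) := by
      rw [map_sub, map_one, map_pow, hφ]
    rw [← h5]
    exact Finset.dvd_prod_of_mem (fun i => φ (1 - AdjoinRoot.root (cyclotomic (m + 1) ℤ) ^ (i + 1)))
      (Finset.mem_range.2 hjm)
  have h6 := isUnit_of_dvd_unit h4 hu
  rw [h2]
  rw [← IsUnit.neg_iff, neg_sub]
  exact h6

theorem exists_root (B : Type u) [CommRing B] [Nontrivial B] {N : ℕ} (hN : 0 < N) (hu : IsUnit (N : B)) :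
    ∃ (B' : Type u) (_ : CommRing B') (_ : Algebra B B') (_ : Module.FaithfullyFlat B B')
      (_ : Algebra.FinitePresentation B B') (ζ : B'), ζ ^ N = 1 ∧ ∀ k : ℕ, ¬ N ∣ k → IsUnit (ζ ^ k - 1) := by
  have hm := cyclotomic.monic N B
  have hnt : Nontrivial (AdjoinRoot (cyclotomic N B)) := by
    refine Ideal.Quotient.nontrivial_iff.mpr fun h => ?_
    have h1 : IsUnit (cyclotomic N B) := Ideal.span_singleton_eq_top.1 h
    have h2 := hm.eq_one_of_isUnit h1
    have h3 := degree_cyclotomic_pos N B hN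
    rw [h2, degree_one] at h3
    exact lt_irrefl _ h3
  have hfree : Module.Free B (AdjoinRoot (cyclotomic N B)) := hm.free_adjoinRoot
  have hfin : Module.Finite B (AdjoinRoot (cyclotomic N B)) := hm.finite_adjoinRoot
  have hfp : Module.FinitePresentation B (AdjoinRoot (cyclotomic N B)) :=
    Module.finitePresentation_of_projective _ _
  refine ⟨AdjoinRoot (cyclotomic N B), inferInstance, inferInstance, inferInstance,
    inferInstance, AdjoinRoot.root _, ?_⟩
  have hu' : IsUnit (N : AdjoinRoot (cyclotomic N B)) := by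
    have := hu.map (algebraMap B (AdjoinRoot (cyclotomic N B)))
    rwa [map_natCast] at this
  have hr := AdjoinRoot.isRoot_root (cyclotomic N B)
  rw [map_cyclotomic] at hr
  exact isUnit_pow_sub_one hN hu' hr

end K201.CentRoot
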