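import Groth.Agent.SGA3x.K201.CentDesc
import Groth.Agent.SGA3x.K201.CentRoot
import Groth.Agent.Sga3B.DSPts

/-!
# Points of a finite diagonalizable group over a base with enough roots of unity
-/

set_option autoImplicit false
universe u
open CategoryTheory MonoidalCategory CartesianMonoidalCategory MonObj GrpObj AlgebraicGeometry Limits Opposite

namespace K201.CentMu

open Groth.Agent Groth.Agent.Sga3B.DSPts CentDesc

section

variable {X : Scheme.{u}} {B : Type u} [CommRing B] (ρ : B →+* Γ(X, ⊤)) {N : ℕ} (hN : 0 < N)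
  (hu : IsUnit (N : B)) {ζ : B} (h1 : ζ ^ N = 1) (h2 : ∀ k : ℕ, ¬ N ∣ k → IsUnit (ζ ^ k - 1))
  {Q : Type} [CommGroup Q] [Finite Q] (hQ : ∀ q : Q, q ^ N = 1) (ψ : Q →* Γ(X, ⊤)) (t : X)

include hN hu h1 h2 hQ in
theorem exists_local : ∃ (U : X.Opens) (χ : Q →* B), t ∈ U ∧
    (∀ q, χ q ∈ Set.range fun k : Fin N => ζ ^ (k : ℕ)) ∧
    ∀ q, X.presheaf.map (homOfLE (le_top : U ≤ ⊤)).op (ψ q) =
      X.presheaf.map (homOfLE (le_top : U ≤ ⊤)).op (ρ (χ q)) := by
  have := Fintype.ofFinite Q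
  let ev : Γ(X, ⊤) →+* X.residueField t := (X.evaluation ⊤ t trivial).hom
  let z := ev (ρ ζ)
  have hzk : ∀ k : ℕ, ¬ N ∣ k → z ^ k ≠ 1 := by
    intro k hk h
    have h3 := ((h2 k hk).map ρ).map ev
    rw [map_sub, map_sub, map_pow, map_pow, map_one, map_one] at h3
    apply h3.ne_zero
    rw [sub_eq_zero]
    exact h
  have hzN : z ^ N = 1 := by
    change ev (ρ ζ) ^ N = 1
    rw [← map_pow, ← map_pow, h1, map_one, map_one]
  have hz : IsPrimitiveRoot z N := by
    refine ⟨hzN, fun l hl => ?_⟩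
    by_contra hcon
    exact hzk l hcon hl
  have hN0 : NeZero N := ⟨hN.ne'⟩
  have hex : ∀ q : Q, ∃ k : Fin N, z ^ (k : ℕ) = ev (ψ q) := by
    intro q
    have h3 : ev (ψ q) ^ N = 1 := by
      rw [← map_pow, ← map_pow, hQ, map_one, map_one]
    obtain ⟨k, hk, hk'⟩ := hz.eq_pow_of_pow_eq_one h3
    exact ⟨⟨k, hk⟩, hk'⟩
  choose k hk using hex
  let w : Q → Γ(X, ⊤) := fun q => ∑ i ∈ Finset.range N, (ψ q) ^ i * (ρ (ζ ^ (k q : ℕ))) ^ (N - 1 - i)
  have hw1 : ∀ q, w q * (ψ q - ρ (ζ ^ (k q : ℕ))) = 0 := by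
    intro q
    change (∑ i ∈ Finset.range N, (ψ q) ^ i * (ρ (ζ ^ (k q : ℕ))) ^ (N - 1 - i)) *
      (ψ q - ρ (ζ ^ (k q : ℕ))) = 0
    rw [geom_sum₂_mul, ← map_pow, ← map_pow, hQ, ← pow_mul, mul_comm, pow_mul, h1, one_pow, map_one, map_one,
      sub_self]
  have hw2 : ∀ q, ev (w q) ≠ 0 := by
    intro q
    have h3 : ev (w q) = N * (ev (ψ q)) ^ (N - 1) := by
      change ev (∑ i ∈ Finset.range N, (ψ q) ^ i * (ρ (ζ ^ (k q : ℕ))) ^ (N - 1 - i)) = _
      rw [map_sum]
      have h4 : ∀ i ∈ Finset.range N, ev ((ψ q) ^ i * (ρ (ζ ^ (k q : ℕ))) ^ (N - 1 - i)) =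
          (ev (ψ q)) ^ (N - 1) := by
        intro i hi
        rw [Finset.mem_range] at hi
        have h5 : ev (ρ (ζ ^ (k q : ℕ))) = ev (ψ q) := by
          rw [← hk q, map_pow, map_pow]
        rw [map_mul, map_pow, map_pow, h5, ← pow_add]
        congr 1
        omega
      rw [Finset.sum_congr rfl h4, Finset.sum_const, Finset.card_range, nsmul_eq_mul]
    rw [h3]
    refine mul_ne_zero ?_ (pow_ne_zero _ ?_)
    · have h4 := (hu.map ρ).map ev
      rw [map_natCast, map_natCast] at h4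
      exact h4.ne_zero
    · rw [← hk q]
      refine pow_ne_zero _ ?_
      intro h0
      rw [h0, zero_pow hN.ne'] at hzN
      exact zero_ne_one hzN
  let U : X.Opens := X.basicOpen (∏ q, w q)
  have htU : t ∈ U := by
    rw [← X.evaluation_ne_zero_iff_mem_basicOpen (U := ⊤) t trivial]
    change ev (∏ q, w q) ≠ 0
    rw [map_prod]
    exact Finset.prod_ne_zero_iff.2 fun q _ => hw2 q
  have hχ1 : ζ ^ (k 1 : ℕ) = 1 := by
    have h3 : N ∣ (k 1 : ℕ) := by
      by_contra hcon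
      refine hzk _ hcon ?_
      rw [hk, map_one, map_one]
    rw [Nat.eq_zero_of_dvd_of_lt h3 (k 1).2, pow_zero]
  have hχ2 : ∀ a b : Q, ζ ^ (k (a * b) : ℕ) = ζ ^ (k a : ℕ) * ζ ^ (k b : ℕ) := by
    intro a b
    rw [← pow_add, pow_eq_pow_mod ((k a : ℕ) + (k b : ℕ)) h1]
    have h3 : z ^ (k (a * b) : ℕ) = z ^ (((k a : ℕ) + (k b : ℕ)) % N) := by
      rw [← pow_eq_pow_mod _ hzN, pow_add, hk, hk, hk, map_mul, map_mul]
    rw [hz.pow_inj (k (a * b)).2 (Nat.mod_lt _ hN) h3]
  let χ : Q →* B :=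
    { toFun := fun q => ζ ^ (k q : ℕ)
      map_one' := hχ1
      map_mul' := hχ2 }
  refine ⟨U, χ, htU, fun q => ⟨k q, rfl⟩, fun q => ?_⟩
  rw [← sub_eq_zero, ← map_sub]
  let r := (X.presheaf.map (homOfLE (le_top : U ≤ ⊤)).op).hom
  have h3 : IsUnit (r (∏ q, w q)) := X.toRingedSpace.isUnit_res_basicOpen (∏ q, w q)
  have h4 : IsUnit (r (w q)) := by
    rw [map_prod] at h3
    exact isUnit_of_dvd_unit (Finset.dvd_prod_of_mem (fun q => r (w q)) (Finset.mem_univ q)) h3
  have h5 : r (w q) * r (ψ q - ρ (χ q)) = 0 := by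
    rw [← map_mul]
    have h6 : w q * (ψ q - ρ (χ q)) = 0 := hw1 q
    rw [h6, map_zero]
  exact (h4.mul_right_eq_zero).1 h5

end

variable {B : Type u} [CommRing B]

/-- The structure homomorphism on global functions. -/
noncomputable def rh (T : Over (Spec (CommRingCat.of B))) : B →+* Γ(T.left, ⊤) :=
  ((Scheme.ΓSpecIso (CommRingCat.of B)).inv ≫ T.hom.appTop).hom

/-- The section of `D(M)` defined by a character with values in `B`. -/
noncomputable def sec {M : Type} [AddCommGroup M] (χ : Multiplicative M →* B) :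
    Over.mk (𝟙 (Spec (CommRingCat.of B))) ⟶ Red.DS (Spec (CommRingCat.of B)) M :=
  dsEquiv _ M ((rh (Over.mk (𝟙 (Spec (CommRingCat.of B)))) : B →* _).comp χ)

lemma comp_sec {M : Type} [AddCommGroup M] (χ : Multiplicative M →* B) {T : Over (Spec (CommRingCat.of B))}
    (a : T ⟶ Over.mk (𝟙 (Spec (CommRingCat.of B)))) :
    a ≫ sec χ = dsEquiv _ M ((rh T : B →* _).comp χ) := by
  rw [sec, dsEquiv_naturality]
  congr 1
  refine MonoidHom.ext fun m => ?_
  have ha : a.left = T.hom := by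
    have := Over.w a
    rw [← this]
    exact (Category.comp_id _).symm
  change a.left.appTop.hom (rh _ (χ m)) = rh T (χ m)
  simp only [rh]
  rw [← ha]
  simp

variable {N : ℕ} (hN : 0 < N)
  (hu : IsUnit (N : B)) {ζ : B} (h1 : ζ ^ N = 1) (h2 : ∀ k : ℕ, ¬ N ∣ k → IsUnit (ζ ^ k - 1))
  {Q : Type} [AddCommGroup Q] [Finite Q] (hQ : ∀ q : Q, N • q = 0)

/-- The characters with values in the powers of `ζ`. -/
def Chars (N : ℕ) (ζ : B) (Q : Type) [AddCommGroup Q] : Type u :=
  {χ : Multiplicative Q →* B // ∀ q, χ q ∈ Set.range fun k : Fin N => ζ ^ (k : ℕ)}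

instance : Finite (Chars N ζ Q) := by
  let φ : Chars N ζ Q → (Multiplicative Q → Set.range fun k : Fin N => ζ ^ (k : ℕ)) :=
    fun χ q => ⟨χ.1 q, χ.2 q⟩
  have : Finite (Multiplicative Q) := inferInstanceAs (Finite Q)
  refine Finite.of_injective φ fun a b hab => Subtype.ext (MonoidHom.ext fun q => ?_)
  exact congrArg Subtype.val (congrFun hab q)

include hN hu h1 h2 hQ in
/-- **Centralizing a finite diagonalizable group is centralizing finitely many sections.** -/
theorem cn_iff {G : Over (Spec (CommRingCat.of B))} [GrpObj G] (i : Red.DS (Spec (CommRingCat.of B)) Q ⟶ G)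
    {X : Over (Spec (CommRingCat.of B))} (g : X ⟶ G) :
    Cn i g ↔ ∀ χ : Chars N ζ Q, Cn (sec χ.1 ≫ i) g := by
  constructor
  · intro h χ X' x a
    rw [← Category.assoc]
    exact h X' x _
  · intro H X' x h
    choose U χ hU hχ hres using fun t : X'.left => exists_local (rh X') hN hu h1 h2
      (Q := Multiplicative Q) (fun q => by
        have := hQ q.toAdd
        exact congrArg Multiplicative.ofAdd this) (dsChar h) t
    let 𝒰 : Scheme.OpenCover.{u} X'.left :=
      { I₀ := X'.left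
        X := fun t => U t
        f := fun t => (U t).ι
        mem₀ := by
          rw [Scheme.presieve₀_mem_precoverage_iff]
          exact ⟨fun t => ⟨t, ⟨t, hU t⟩, rfl⟩, inferInstance⟩ }
    ext1
    refine Scheme.Cover.hom_ext 𝒰 _ _ fun t => ?_
    let V : Over (Spec (CommRingCat.of B)) := Over.mk ((U t).ι ≫ X'.hom)
    let j : V ⟶ X' := Over.homMk (U t).ι rfl
    let a : V ⟶ Over.mk (𝟙 (Spec (CommRingCat.of B))) := Over.homMk V.hom (Category.comp_id _)
    have hj : j ≫ h = a ≫ sec (χ t) := by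
      rw [comp_sec]
      apply (dsEquiv V Q).symm.injective
      change dsChar _ = _
      rw [dsChar_comp, MulEquiv.symm_apply_apply]
      refine MonoidHom.ext fun q => ?_
      have h3 := hres t q
      have h4 : (U t).ι ''ᵁ ⊤ ≤ U t := by simp
      have h5 := congrArg (fun z => (X'.left.presheaf.map (homOfLE h4).op).hom z) h3
      have h6 : ∀ z : Γ(X'.left, ⊤), (X'.left.presheaf.map (homOfLE h4).op).hom
          ((X'.left.presheaf.map (homOfLE (le_top : U t ≤ ⊤)).op).hom z) = (U t).ι.appTop.hom z := by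
        intro z
        rw [Scheme.Opens.ι_appTop, ← CommRingCat.comp_apply, ← Functor.map_comp]
        rfl
      change (U t).ι.appTop.hom (dsChar h q) = rh V (χ t q)
      rw [← h6]
      refine h5.trans ?_
      change (X'.left.presheaf.map (homOfLE h4).op).hom
          ((X'.left.presheaf.map (homOfLE (le_top : U t ≤ ⊤)).op).hom (rh X' (χ t q))) = _
      rw [h6]
      simp only [rh]
      change _ = ((Scheme.ΓSpecIso (CommRingCat.of B)).inv ≫ ((U t).ι ≫ X'.hom).appTop).hom (χ t q)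
      simp
    have h4 := H ⟨χ t, hχ t⟩ V (j ≫ x) a
    have h5 : j ≫ ((x ≫ g) * (h ≫ i)) = j ≫ ((h ≫ i) * (x ≫ g)) := by
      rw [MonObj.comp_mul, MonObj.comp_mul]
      rw [← Category.assoc a, ← hj] at h4
      simpa only [Category.assoc] using h4
    exact congrArg CommaMorphism.left h5

end K201.CentMu
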