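import Groth.Agent.SGA3x.K201.CentDesc
import Groth.Agent.Ega43.FPOfComp
import Groth.Agent.Sga3B.CentRep

/-!
# Centralizers of sections of non separated group schemes
-/

set_option autoImplicit false
universe u
open CategoryTheory MonoidalCategory CartesianMonoidalCategory MonObj GrpObj AlgebraicGeometry Limits Opposite

namespace K201.CentSec

open Groth.Agent CentDesc Groth.Agent.Sga3B.CentRep

variable {S : Scheme.{u}}

/-- quasi-compact immersions locally of finite presentation -/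
structure IL {X Y : Scheme.{u}} (f : X ⟶ Y) : Prop where
  imm : IsImmersion f
  qc : QuasiCompact f
  lfp : LocallyOfFinitePresentation f

lemma IL.bc {A B C D : Over S} {a : A ⟶ B} {b : A ⟶ C} {c : B ⟶ D} {d : C ⟶ D}
    (h : IsPullback a b c d) (hd : IL d.left) : IL a.left := by
  have H1 := isPullback_left h
  exact ⟨MorphismProperty.of_isPullback H1.flip hd.imm, MorphismProperty.of_isPullback H1.flip hd.qc,
    MorphismProperty.of_isPullback H1.flip hd.lfp⟩

lemma IL.comp {X Y Z : Scheme.{u}} {f : X ⟶ Y} {g : Y ⟶ Z} (hf : IL f) (hg : IL g) : IL (f ≫ g) := by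
  have := hf.imm
  have := hf.qc
  have := hf.lfp
  have := hg.imm
  have := hg.qc
  have := hg.lfp
  exact ⟨inferInstance, inferInstance, inferInstance⟩

lemma IL.of_isClosedImmersion {X Y : Scheme.{u}} (f : X ⟶ Y) [IsClosedImmersion f]
    [LocallyOfFinitePresentation f] : IL f :=
  ⟨inferInstance, inferInstance, inferInstance⟩

/-- The unit section. -/
lemma IL.unit (G : Over S) [GrpObj G] [LocallyOfFiniteType G.hom] [QuasiSeparated G.hom] :
    IL (η[G] : 𝟙_ (Over S) ⟶ G).left := by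
  have h0 : (η[G] : 𝟙_ (Over S) ⟶ G).left ≫ G.hom = (𝟙_ (Over S)).hom := Over.w η[G]
  have h1 : IsIso (𝟙_ (Over S)).hom := inferInstanceAs (IsIso (𝟙 S))
  have h2 : IsImmersion ((η[G] : 𝟙_ (Over S) ⟶ G).left ≫ G.hom) := by rw [h0]; infer_instance
  have h3 : QuasiCompact ((η[G] : 𝟙_ (Over S) ⟶ G).left ≫ G.hom) := by rw [h0]; infer_instance
  have h4 : LocallyOfFinitePresentation ((η[G] : 𝟙_ (Over S) ⟶ G).left ≫ G.hom) := by rw [h0]; infer_instance
  exact ⟨IsImmersion.of_comp _ G.hom, QuasiCompact.of_comp _ G.hom,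
    Ega43.FPOfComp.locallyOfFinitePresentation_of_comp _ G.hom⟩

/-- Finite intersections. -/
theorem exists_inter {X : Over S} {κ : Type*} [Finite κ] (Z : κ → Over S) (z : ∀ k, Z k ⟶ X)
    (h : ∀ k, IL (z k).left) :
    ∃ (Y : Over S) (y : Y ⟶ X), IL y.left ∧
      ∀ (T : Over S) (g : T ⟶ X), (∃ a : T ⟶ Y, a ≫ y = g) ↔ ∀ k, ∃ a : T ⟶ Z k, a ≫ z k = g := by
  classical
  have := Fintype.ofFinite κ
  have key : ∀ s : Finset κ, ∃ (Y : Over S) (y : Y ⟶ X), IL y.left ∧
      ∀ (T : Over S) (g : T ⟶ X), (∃ a : T ⟶ Y, a ≫ y = g) ↔ ∀ k ∈ s, ∃ a : T ⟶ Z k, a ≫ z k = g := by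
    intro s
    induction s using Finset.induction_on with
    | empty =>
      refine ⟨X, 𝟙 X, ⟨inferInstanceAs (IsImmersion (𝟙 X.left)), inferInstanceAs (QuasiCompact (𝟙 X.left)),
        inferInstanceAs (LocallyOfFinitePresentation (𝟙 X.left))⟩, fun T g => ?_⟩
      simp
    | insert k s hk ih =>
      obtain ⟨Y, y, hy, hy'⟩ := ih
      refine ⟨pullback y (z k), pullback.fst y (z k) ≫ y,
        (IL.bc (IsPullback.of_hasPullback y (z k)) (h k)).comp hy, fun T g => ?_⟩
      constructor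
      · rintro ⟨a, rfl⟩ l hl
        rw [Finset.mem_insert] at hl
        rcases hl with rfl | hl
        · exact ⟨a ≫ pullback.snd y (z l), by rw [Category.assoc, pullback.condition]⟩
        · exact (hy' _ _).1 ⟨a ≫ pullback.fst y (z k), by rw [Category.assoc]⟩ l hl
      · intro H
        obtain ⟨a, ha⟩ := (hy' T g).2 fun l hl => H l (Finset.mem_insert_of_mem hl)
        obtain ⟨b, hb⟩ := H k (Finset.mem_insert_self k s)
        exact ⟨pullback.lift a b (ha.trans hb.symm), by rw [pullback.lift_fst_assoc, ha]⟩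
  obtain ⟨Y, y, hy, hy'⟩ := key Finset.univ
  exact ⟨Y, y, hy, fun T g => by rw [hy']; simp⟩

/-- The centralizer of a section is an immersion of finite presentation. -/
theorem exists_sec {G : Over S} [GrpObj G] [LocallyOfFiniteType G.hom] [QuasiSeparated G.hom]
    (a : Over.mk (𝟙 S) ⟶ G) : ∃ (C : Over S) (c : C ⟶ G), IL c.left ∧ Rep a c := by
  let e : G ⟶ Over.mk (𝟙 S) := Over.homMk G.hom (Category.comp_id _)
  have hu : ∀ (T : Over S) (x y : T ⟶ Over.mk (𝟙 S)), x = y := by
    intro T x y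
    ext1
    have h1 : x.left ≫ 𝟙 S = T.hom := Over.w x
    have h2 : y.left ≫ 𝟙 S = T.hom := Over.w y
    exact ((Category.comp_id x.left).symm.trans (h1.trans h2.symm)).trans (Category.comp_id y.left)
  let k : G ⟶ G := (𝟙 G) * (e ≫ a) * (𝟙 G)⁻¹ * (e ≫ a)⁻¹
  refine ⟨pullback k η[G], pullback.fst k η[G], IL.bc (IsPullback.of_hasPullback _ _) (IL.unit G), fun T g => ?_⟩
  have h1 : (∃ z, z ≫ pullback.fst k η[G] = g) ↔ g ≫ k = 1 := by
    constructor
    · rintro ⟨z, rfl⟩
      rw [Category.assoc, pullback.condition, ← Category.assoc]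
      have : z ≫ pullback.snd k η[G] = toUnit T := Subsingleton.elim _ _
      rw [this]
      rfl
    · intro h
      exact ⟨pullback.lift g (toUnit T) h, pullback.lift_fst _ _ _⟩
  have h2 : g ≫ k = g * (g ≫ e ≫ a) * g⁻¹ * (g ≫ e ≫ a)⁻¹ := by
    simp only [k, MonObj.comp_mul, GrpObj.comp_inv, Category.comp_id]
  rw [h1, h2]
  constructor
  · intro h X' x q
    have h3 : g * (g ≫ e ≫ a) = (g ≫ e ≫ a) * g := by
      rwa [mul_inv_eq_one, mul_inv_eq_iff_eq_mul] at h
    have h4 := congrArg (fun t => x ≫ t) h3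
    simp only [MonObj.comp_mul] at h4
    have h5 : q = x ≫ g ≫ e := hu _ _ _
    rw [h5]
    simpa only [Category.assoc] using h4
  · intro h
    have h3 := h T (𝟙 T) (g ≫ e)
    rw [Category.id_comp, Category.assoc] at h3
    rw [mul_inv_eq_one, mul_inv_eq_iff_eq_mul]
    exact h3

end K201.CentSec
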