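import Groth.Agent.S5259
import Groth.Agent.SGA3x.K10.MTLoc
import Groth.Agent.SGA3x.K14.SmoothFinMT
import Groth.Agent.SGA3x.K16.TorsCent
import Groth.Agent.SGA3x.K201.CentMu
import Groth.Agent.SGA3x.K201.CentSec
import Groth.Agent.Sga3B.TorusIrr

/-!
# Centralizers of smooth groups of multiplicative type, without separation hypothesis
-/

set_option autoImplicit false
universe u
open CategoryTheory MonoidalCategory CartesianMonoidalCategory MonObj GrpObj AlgebraicGeometry Limits Opposite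

namespace K201.CentSplit

open Groth.Agent Groth.Agent.Sga3B Groth.Agent.Books Groth.Agent.Books.AffBridge DSAff DSPts CentDesc CentMu CentSec

/-- The order of a finite subgroup of the character group of a smooth diagonalizable group is invertible. -/
theorem isUnit_card {B : Type u} [CommRing B] {M Q : Type} [AddCommGroup M] [AddCommGroup Q] [Finite Q]
    (j : Q →+ M) (hj : Function.Injective j) (hs : Smooth (Red.DS (Spec (CommRingCat.of B)) M).hom) :
    IsUnit ((Nat.card Q : ℕ) : B) := by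
  by_contra hcon
  obtain ⟨m, hm, hmem⟩ := exists_max_ideal_of_mem_nonunits hcon
  let K := B ⧸ m
  let _ : Field K := Ideal.Quotient.field m
  let b : Spec (CommRingCat.of K) ⟶ Spec (CommRingCat.of B) := Spec.map (CommRingCat.ofHom (Ideal.Quotient.mk m))
  have h1 : Smooth (Red.DS (Spec (CommRingCat.of K)) M).hom := by
    have : Smooth (Red.bc b (Red.DS (Spec (CommRingCat.of B)) M)).hom :=
      inferInstanceAs (Smooth (pullback.snd (Red.DS (Spec (CommRingCat.of B)) M).hom b))
    exact TorusAlgClosed.prop_of_grp_iso (P := @Smooth) (TorusAlgClosed.dsBcIso b M).symm this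
  have e : (SpecOver K (MonoidAlgebra K (Multiplicative M))).hom =
      (dsFrom K M).left ≫ (Red.DS (Spec (CommRingCat.of K)) M).hom := (Over.w _).symm
  have : IsIso (dsFrom K M).left := inferInstanceAs (IsIso ((Over.forget _).map (dsFrom K M)))
  have h2 : Smooth (SpecOver K (MonoidAlgebra K (Multiplicative M))).hom := by
    rw [e]; infer_instance
  have h3 : Algebra.Smooth K (MonoidAlgebra K (Multiplicative M)) := (AffBridge2.smooth_specOver_iff _ _).1 h2
  have h4 : IsReduced (MonoidAlgebra K (Multiplicative M)) :=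
    Groth.Agent.FlatB.GenFibRed.isReduced_of_smooth_field K _
  let φ : MonoidAlgebra K (Multiplicative Q) →+* MonoidAlgebra K (Multiplicative M) :=
    (MonoidAlgebra.mapDomainAlgHom K K (AddMonoidHom.toMultiplicative j)).toRingHom
  have hφ : Function.Injective φ := MonoidAlgebra.mapDomain_injective (fun a b h => hj h)
  have h5 : IsReduced (MonoidAlgebra K (Multiplicative Q)) := isReduced_of_injective φ hφ
  refine K14.SmoothFinMT.card_ne_zero h5 ?_
  have h6 : Ideal.Quotient.mk m ((Nat.card Q : ℕ) : B) = 0 := Ideal.Quotient.eq_zero_iff_mem.2 hmem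
  rw [map_natCast] at h6
  exact h6

/-- Finitely generated abelian groups. -/
theorem exists_prod (M : Type) [AddCommGroup M] [AddGroup.FG M] :
    ∃ (r : ℕ) (Q : Type) (_ : AddCommGroup Q) (_ : Finite Q), Nonempty (M ≃+ (Fin r → ℤ) × Q) := by
  obtain ⟨n, κ, _, p, hp, e, ⟨f⟩⟩ := AddCommGroup.equiv_free_prod_directSum_zmod M
  classical
  have hf : Finite (DirectSum κ fun i => ZMod (p i ^ e i)) := by
    have : ∀ i, NeZero (p i ^ e i) := fun i => ⟨pow_ne_zero _ (hp i).ne_zero⟩
    exact Finite.of_equiv _ (DirectSum.addEquivProd fun i => ZMod (p i ^ e i)).symm.toEquiv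
  exact ⟨n, _, inferInstance, hf, ⟨f.trans ((Finsupp.linearEquivFunOnFinite ℤ ℤ (Fin n)).toAddEquiv.prodCongr
    (AddEquiv.refl _))⟩⟩

variable {S : Scheme.{u}}

section DS

variable {M N L : Type} [AddCommGroup M] [AddCommGroup N] [AddCommGroup L]

lemma DSmap_comp (φ : N →+ L) (ψ : M →+ N) : Red.DSmap S φ ≫ Red.DSmap S ψ = Red.DSmap S (φ.comp ψ) := by
  have h : ∀ {T : Over S} (x : T ⟶ Red.DS S L), x ≫ Red.DSmap S φ ≫ Red.DSmap S ψ = x ≫ Red.DSmap S (φ.comp ψ) := by
    intro T x
    rw [← dsEquiv_dsChar x, ← Category.assoc, dsEquiv_DSmap, dsEquiv_DSmap, dsEquiv_DSmap]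
    rfl
  simpa using h (𝟙 _)

lemma DSmap_id : Red.DSmap S (AddMonoidHom.id M) = 𝟙 (Red.DS S M) := by
  have h : ∀ {T : Over S} (x : T ⟶ Red.DS S M), x ≫ Red.DSmap S (AddMonoidHom.id M) = x := by
    intro T x
    rw [← dsEquiv_dsChar x, dsEquiv_DSmap]
    rfl
  simpa using h (𝟙 _)

variable {G : Over S} [GrpObj G] (i : Red.DS S (M × N) ⟶ G) [IsMonHom i]

/-- Centralizing a product is centralizing the factors. -/
theorem cn_prod {X : Over S} (g : X ⟶ G) : Cn i g ↔
    Cn (Red.DSmap S (AddMonoidHom.fst M N) ≫ i) g ∧ Cn (Red.DSmap S (AddMonoidHom.snd M N) ≫ i) g := by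
  constructor
  · intro h
    constructor
    · intro X' x a
      rw [← Category.assoc]
      exact h X' x _
    · intro X' x a
      rw [← Category.assoc]
      exact h X' x _
  · rintro ⟨h1, h2⟩ X' x h
    let a : X' ⟶ Red.DS S M := h ≫ Red.DSmap S (AddMonoidHom.inl M N)
    let b : X' ⟶ Red.DS S N := h ≫ Red.DSmap S (AddMonoidHom.inr M N)
    have hab : h = (a ≫ Red.DSmap S (AddMonoidHom.fst M N)) * (b ≫ Red.DSmap S (AddMonoidHom.snd M N)) := by
      apply (dsEquiv X' (M × N)).symm.injective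
      rw [map_mul]
      change dsChar h = dsChar _ * dsChar _
      simp only [a, b, dsChar_DSmap]
      refine MonoidHom.ext fun m => ?_
      change dsChar h m = dsChar h (Multiplicative.ofAdd (m.toAdd.1, 0)) * dsChar h (Multiplicative.ofAdd (0, m.toAdd.2))
      rw [← map_mul]
      congr 1
      change m = Multiplicative.ofAdd ((m.toAdd.1, 0) + (0, m.toAdd.2))
      rw [Prod.mk_add_mk, add_zero, zero_add]
      rfl
    have h3 := h1 X' x a
    have h4 := h2 X' x b
    rw [← Category.assoc] at h3 h4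
    rw [hab, MonObj.mul_comp, ← _root_.mul_assoc, h3, _root_.mul_assoc, h4, ← _root_.mul_assoc]

end DS

lemma smooth_DS (r : ℕ) : Smooth (Red.DS S (Fin r → ℤ)).hom := by
  have h1 : Smooth (Red.diag (ULift.{u} ℤ) (Fin r → ℤ)).hom := TorusAlgClosed.diag_smooth _
  exact inferInstanceAs (Smooth (pullback.snd (Red.diag (ULift.{u} ℤ) (Fin r → ℤ)).hom _))

lemma connected_fibre (r : ℕ) (s : S) :
    ConnectedSpace ↥(Limits.pullback (Red.DS S (Fin r → ℤ)).hom (S.fromSpecResidueField s)) := by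
  have h1 : GeometricallyIrreducible (Red.diag (ULift.{u} ℤ) (Fin r → ℤ)).hom :=
    TorusIrr.geometricallyIrreducible_diag r
  have h2 : GeometricallyIrreducible (Red.DS S (Fin r → ℤ)).hom :=
    inferInstanceAs (GeometricallyIrreducible (pullback.snd (Red.diag (ULift.{u} ℤ) (Fin r → ℤ)).hom _))
  have h3 : IrreducibleSpace ↥(Limits.pullback (Red.DS S (Fin r → ℤ)).hom (S.fromSpecResidueField s)) :=
    GeometricallyIrreducible.geometrically_irreducibleSpace _ _ _ (.of_hasPullback _ _)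
  infer_instance

/-- **The case of a diagonalizable group over a base with enough roots of unity.** -/
theorem exists_rep_DS {B : Type u} [CommRing B] {r : ℕ} {Q : Type} [AddCommGroup Q] [Finite Q]
    (hu : IsUnit ((Nat.card Q : ℕ) : B)) {ζ : B} (h1 : ζ ^ (Nat.card Q) = 1)
    (h2 : ∀ k : ℕ, ¬ Nat.card Q ∣ k → IsUnit (ζ ^ k - 1)) {G : Over (Spec (CommRingCat.of B))} [GrpObj G]
    [LocallyOfFiniteType G.hom] [QuasiSeparated G.hom] (i : Red.DS (Spec (CommRingCat.of B)) ((Fin r → ℤ) × Q) ⟶ G)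
    [IsMonHom i] [Mono i] : ∃ (C : Over (Spec (CommRingCat.of B))) (c : C ⟶ G), IL c.left ∧ Rep i c := by
  have hp1 : IsMonHom (Red.DSmap (Spec (CommRingCat.of B)) (AddMonoidHom.fst (Fin r → ℤ) Q)) :=
    K16.TorsCent.isMonHom_DSmap _
  have hp2 : Mono (Red.DSmap (Spec (CommRingCat.of B)) (AddMonoidHom.fst (Fin r → ℤ) Q)) := by
    have h3 : Red.DSmap (Spec (CommRingCat.of B)) (AddMonoidHom.fst (Fin r → ℤ) Q) ≫
        Red.DSmap (Spec (CommRingCat.of B)) (AddMonoidHom.inl (Fin r → ℤ) Q) = 𝟙 _ := by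
      rw [DSmap_comp, ← DSmap_id]
      congr 1
    have h4 : Mono (Red.DSmap (Spec (CommRingCat.of B)) (AddMonoidHom.fst (Fin r → ℤ) Q) ≫
        Red.DSmap (Spec (CommRingCat.of B)) (AddMonoidHom.inl (Fin r → ℤ) Q)) := by
      rw [h3]; infer_instance
    exact mono_of_mono _ (Red.DSmap (Spec (CommRingCat.of B)) (AddMonoidHom.inl (Fin r → ℤ) Q))
  have hsm := smooth_DS (S := Spec (CommRingCat.of B)) r
  have haff : IsAffineHom (Red.DS (Spec (CommRingCat.of B)) (Fin r → ℤ)).hom :=
    inferInstanceAs (IsAffineHom (pullback.snd (Red.diag (ULift.{u} ℤ) (Fin r → ℤ)).hom _))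
  obtain ⟨Z, i1, z, hz, hz1, hz2⟩ := S5259.result G (Red.DS (Spec (CommRingCat.of B)) (Fin r → ℤ))
    (connected_fibre r) (Red.DSmap (Spec (CommRingCat.of B)) (AddMonoidHom.fst (Fin r → ℤ) Q) ≫ i)
  choose Y y hy hy' using fun χ : Chars (Nat.card Q) ζ Q => exists_sec (G := G)
    (sec χ.1 ≫ Red.DSmap (Spec (CommRingCat.of B)) (AddMonoidHom.snd (Fin r → ℤ) Q) ≫ i)
  obtain ⟨C, c, hc, hc'⟩ := exists_inter (κ := Option (Chars (Nat.card Q) ζ Q))
    (fun o => o.elim Z Y) (fun o => match o with | none => z | some χ => y χ) (by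
      rintro (_ | χ)
      · exact IL.of_isClosedImmersion z.left
      · exact hy χ)
  refine ⟨C, c, hc, fun T g => ?_⟩
  have hQ : ∀ q : Q, Nat.card Q • q = 0 := fun q => card_nsmul_eq_zero'
  rw [hc', cn_prod, cn_iff (Nat.card_pos (α := Q)) hu h1 h2 hQ (Red.DSmap (Spec (CommRingCat.of B))
    (AddMonoidHom.snd (Fin r → ℤ) Q) ≫ i)]
  constructor
  · intro H
    exact ⟨(hz.2.2 T g).1 (H none), fun χ => (hy' χ T g).1 (H (some χ))⟩
  · rintro ⟨H1, H2⟩ (_ | χ)
    · exact (hz.2.2 T g).2 H1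
    · exact (hy' χ T g).2 (H2 χ)

end K201.CentSplit
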