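import Groth.Agent.SGA3x.K201.TorsOrder
import Groth.Agent.SGA3b.K201.ExtField
import Groth.Agent.SGA3b.K201.ExtHens

/-!
# Kernels on points, base change, Hopf form

* `Ker i p`: `i` is the kernel of `p` (on points); `Ker.bc`, `Ker.congr`;
* `exists_hopf_ext`: the Hopf algebra form of an exact sequence of affine groups after base change;
-/

set_option autoImplicit false

universe u

open CategoryTheory MonoidalCategory CartesianMonoidalCategory MonObj GrpObj AlgebraicGeometry Limits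
open TensorProduct
open Groth.Agent Groth.Agent.Books.AffBridge Groth.Agent.Books.AffBridge2 Groth.Agent.Sga3A Groth.Agent.Sga3B
open SGA3b K10.MTLoc

namespace K201.KerBc

open TorsScheme TorsGen TorsFib TorsOrder FibRes BCIso

variable {S S' : Scheme.{u}}

/-- `i` is the kernel of `p`. -/
structure Ker {N G Q : Over S} [GrpObj Q] (i : N ⟶ G) (p : G ⟶ Q) : Prop where
  mono : Mono i
  pts : ∀ (T : Over S) (a : T ⟶ G), (∃ b : T ⟶ N, b ≫ i = a) ↔ a ≫ p = 1

theorem ker_of_isKernel {N G Q : Over S} [GrpObj Q] {i : N ⟶ G} {p : G ⟶ Q}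
    (h : AlgGrp.IsKernel i p) : Ker i p := by
  refine ⟨?_, fun T a => ⟨?_, fun ha => ⟨h.lift a (toUnit T) ha, h.lift_fst _ _ _⟩⟩⟩
  · have : Mono (η[Q] : 𝟙_ (Over S) ⟶ Q) := ⟨fun a b _ => toUnit_unique _ _⟩
    exact MorphismProperty.of_isPullback (P := MorphismProperty.monomorphisms (Over S)) (IsPullback.flip h)
      (MorphismProperty.monomorphisms.infer_property _)
  · rintro ⟨b, rfl⟩
    rw [Category.assoc, h.w, ← Category.assoc]
    change (b ≫ toUnit N) ≫ η[Q] = toUnit T ≫ η[Q]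
    congr 1
    exact toUnit_unique _ _

theorem Ker.bc {N G Q : Over S} [GrpObj Q] {i : N ⟶ G} {p : G ⟶ Q} (h : Ker i p) (f : S' ⟶ S) :
    Ker ((Over.pullback f).map i) ((Over.pullback f).map p) := by
  have h2 := h.mono
  refine ⟨inferInstance, fun X x => ?_⟩
  have h3 := h.pts ((Over.map f).obj X) ((BcPts.bcEquiv f X G).symm x)
  have h4 : x ≫ (Over.pullback f).map p = 1 ↔ (BcPts.bcEquiv f X G).symm x ≫ p = 1 := by
    rw [← BcPts.bcEquiv_symm_comp]
    have hone : (BcPts.bcEquiv f X Q).symm 1 = 1 := map_one (BcPts.bcMulEquiv f X Q).symm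
    rw [← hone, (BcPts.bcEquiv f X Q).symm.injective.eq_iff]
  rw [h4, ← h3]
  constructor
  · rintro ⟨y, rfl⟩
    exact ⟨(BcPts.bcEquiv f X N).symm y, (BcPts.bcEquiv_symm_comp f y i).symm⟩
  · rintro ⟨y, hy⟩
    refine ⟨BcPts.bcEquiv f X N y, ?_⟩
    rw [← BcPts.bcEquiv_comp, hy, Equiv.apply_symm_apply]

theorem Ker.congr {N G Q N' G' Q' : Over S} [GrpObj Q] [GrpObj Q'] {i : N ⟶ G} {p : G ⟶ Q} (h : Ker i p)
    {i' : N' ⟶ G'} {p' : G' ⟶ Q'} (u : N ≅ N') (v : G ≅ G') (w : Q ⟶ Q') [Mono w] [IsMonHom w]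
    (hi : i ≫ v.hom = u.hom ≫ i') (hp : p ≫ w = v.hom ≫ p') : Ker i' p' := by
  have h2 := h.mono
  have hi' : i' = u.inv ≫ i ≫ v.hom := by rw [hi, Iso.inv_hom_id_assoc]
  refine ⟨?_, fun X x => ?_⟩
  · rw [hi']; infer_instance
  · have h3 := h.pts X (x ≫ v.inv)
    have h4 : x ≫ p' = 1 ↔ (x ≫ v.inv) ≫ p = 1 := by
      have h5 : x ≫ p' = ((x ≫ v.inv) ≫ p) ≫ w := by
        rw [Category.assoc, Category.assoc, hp, Iso.inv_hom_id_assoc]
      rw [h5, ← cancel_mono w (g := (x ≫ v.inv) ≫ p) (h := 1), MonObj.one_comp]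
    rw [h4, ← h3]
    constructor
    · rintro ⟨y, rfl⟩
      exact ⟨y ≫ u.inv, by rw [hi', Category.assoc, Category.assoc, Category.assoc, Category.assoc, Iso.hom_inv_id,
        Category.comp_id]⟩
    · rintro ⟨y, hy⟩
      exact ⟨y ≫ u.hom, by rw [Category.assoc, ← hi, ← Category.assoc, hy, Category.assoc, Iso.inv_hom_id,
        Category.comp_id]⟩

theorem Ker.surjective_and_ker {k A B C : Type u} [CommRing k] [CommRing A] [CommRing B] [CommRing C]
    [Algebra k A] [HopfAlgebra k B] [Algebra k C] (φ : B →ₐ[k] A) (ψ : A →ₐ[k] C)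
    (h : Ker (specMap k ψ) (specMap k φ)) :
    Function.Surjective ψ ∧ RingHom.ker ψ = Ideal.map φ (RingHom.ker (Bialgebra.counitAlgHom k B)) := by
  have h' := ker_of_isKernel (isKernel_specMap k φ _ rfl)
  have h1 := h.mono
  have h2 := h'.mono
  obtain ⟨a, ha⟩ := (h'.pts _ _).2 ((h.pts _ (specMap k ψ)).1 ⟨𝟙 _, Category.id_comp _⟩)
  obtain ⟨b, hb⟩ := (h.pts _ _).2 ((h'.pts _ _).1 ⟨𝟙 _, Category.id_comp _⟩)
  let α := specPreimage k a
  let β := specPreimage k b
  have hα : ψ = α.comp (Ideal.Quotient.mkₐ k _) := by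
    apply specMap_injective k
    rw [specMap_comp, specMap_specPreimage, ha]
  have hβ : Ideal.Quotient.mkₐ k _ = β.comp ψ := by
    apply specMap_injective k
    rw [specMap_comp, specMap_specPreimage, hb]
  have hab : α.comp β = AlgHom.id k C := by
    apply specMap_injective k
    rw [specMap_comp, specMap_specPreimage, specMap_specPreimage, specMap_id, ← cancel_mono (specMap k ψ),
      Category.assoc, hb, ha, Category.id_comp]
  constructor
  · intro c
    obtain ⟨x, hx⟩ := Ideal.Quotient.mk_surjective (β c)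
    refine ⟨x, ?_⟩
    rw [hα]
    change α (Ideal.Quotient.mk _ x) = c
    rw [hx]
    exact DFunLike.congr_fun hab c
  · ext x
    rw [RingHom.mem_ker, ← Ideal.Quotient.eq_zero_iff_mem]
    constructor
    · intro hx
      change Ideal.Quotient.mkₐ k _ x = 0
      rw [hβ]
      change β (ψ x) = 0
      rw [hx, map_zero]
    · intro hx
      rw [hα]
      change α (Ideal.Quotient.mk _ x) = 0
      rw [hx, map_zero]

lemma isPullback_bc (q : S' ⟶ S) {G H : Over S} (i : G ⟶ H) :
    IsPullback (pullback.fst G.hom q) ((Over.pullback q).map i).left i.left (pullback.fst H.hom q) := by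
  have h2 : IsPullback (pullback.fst G.hom q)
      (((Over.pullback q).map i).left ≫ ((Over.pullback q).obj H).hom) (i.left ≫ H.hom) q := by
    rw [Over.w, Over.w]
    exact IsPullback.of_hasPullback _ _
  refine IsPullback.of_bot h2 ?_ (IsPullback.of_hasPullback _ _)
  exact (pullback.lift_fst _ _ _).symm

/-- **The Hopf form of an exact sequence of groups after base change to an affine scheme.** -/
theorem exists_hopf_ext {N G Q : Over S} [GrpObj N] [GrpObj G] [GrpObj Q] {i : N ⟶ G} [IsMonHom i] {p : G ⟶ Q}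
    [IsMonHom p] (h : Ker i p) [Flat p.left] [Surjective p.left] {R : Type u} [CommRing R]
    (c : Spec (CommRingCat.of R) ⟶ S) {C A B : Type u} [CommRing C] [HopfAlgebra R C] [CommRing A] [HopfAlgebra R A]
    [CommRing B] [HopfAlgebra R B] (eN : Grp.mk (Red.bc c N) ≅ Grp.mk (SpecOver R C))
    (eG : Grp.mk (Red.bc c G) ≅ Grp.mk (SpecOver R A)) (eQ : Grp.mk (Red.bc c Q) ≅ Grp.mk (SpecOver R B)) :
    ∃ (φ : B →ₐc[R] A) (ψ : A →ₐc[R] C), Function.Surjective ψ ∧
      RingHom.ker (ψ : A →ₐ[R] C) = Ideal.map (φ : B →ₐ[R] A) (RingHom.ker (Bialgebra.counitAlgHom R B)) ∧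
      (φ : B →ₐ[R] A).toRingHom.FaithfullyFlat := by
  let uN : Red.bc c N ≅ SpecOver R C := (Grp.forget _).mapIso eN
  let uG : Red.bc c G ≅ SpecOver R A := (Grp.forget _).mapIso eG
  let uQ : Red.bc c Q ≅ SpecOver R B := (Grp.forget _).mapIso eQ
  have hN : IsMonHom uN.hom := eN.hom.hom.isMonHom_hom
  have hN' : IsMonHom uN.inv := eN.inv.hom.isMonHom_hom
  have hG : IsMonHom uG.hom := eG.hom.hom.isMonHom_hom
  have hG' : IsMonHom uG.inv := eG.inv.hom.isMonHom_hom
  have hQ : IsMonHom uQ.hom := eQ.hom.hom.isMonHom_hom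
  let q : SpecOver R A ⟶ SpecOver R B := uG.inv ≫ (Over.pullback c).map p ≫ uQ.hom
  let j : SpecOver R C ⟶ SpecOver R A := uN.inv ≫ (Over.pullback c).map i ≫ uG.hom
  have hq : IsMonHom q := inferInstance
  have hj : IsMonHom j := inferInstance
  obtain ⟨φ, hφ⟩ := exists_bialgHom_of_isMonHom R q
  obtain ⟨ψ, hψ⟩ := exists_bialgHom_of_isMonHom R j
  have hk : Ker (specMap R (ψ : A →ₐ[R] C)) (specMap R (φ : B →ₐ[R] A)) := by
    rw [hφ, hψ]
    exact (h.bc c).congr uN uG uQ.hom (by simp [j]) (by simp [q])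
  obtain ⟨h1, h2⟩ := hk.surjective_and_ker
  refine ⟨φ, ψ, h1, h2, ?_⟩
  rw [← flat_and_surjective_specMap_iff R (φ : B →ₐ[R] A), hφ]
  have hpb := isPullback_bc c p
  have f1 : Flat ((Over.pullback c).map p).left := MorphismProperty.of_isPullback hpb inferInstance
  have f2 : Surjective ((Over.pullback c).map p).left := MorphismProperty.of_isPullback hpb inferInstance
  have i1 : IsIso uG.inv.left := inferInstanceAs (IsIso ((Over.forget _).map uG.inv))
  have i2 : IsIso uQ.hom.left := inferInstanceAs (IsIso ((Over.forget _).map uQ.hom))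
  have hql : q.left = uG.inv.left ≫ ((Over.pullback c).map p).left ≫ uQ.hom.left := rfl
  rw [hql]
  constructor <;> infer_instance

end K201.KerBc
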