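import Groth.Agent.SGA3x.K12.DensePow
import Groth.Agent.SGA3x.K13.MTHopf
import Groth.Agent.SGA3x.K13.NTorsion
import Groth.Agent.SGA3b.K201.TorsGen
import Groth.Agent.SGA3b.K201.TorsTriv
import Groth.Agent.SGA3b.K202.Conv
import Groth.Agent.Books.AffBridge2
import Groth.Agent.Sga3B.RG.BrDiag
import Mathlib.AlgebraicGeometry.Morphisms.FlatRank

/-!
# The `n`-torsion subscheme: base change, affine form, ranks of the fibres
-/

set_option autoImplicit false

universe u

open CategoryTheory MonoidalCategory CartesianMonoidalCategory MonObj GrpObj AlgebraicGeometry Limits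
open TensorProduct
open Groth.Agent Groth.Agent.Books.AffBridge Groth.Agent.Sga3A Groth.Agent.Sga3B
open K12.DensePow SGA3b

namespace K201.TorsScheme

variable {S S' : Scheme.{u}}

/-- `ζ : N ⟶ H` is the subscheme of points of order dividing `n`. -/
structure IsTor (n : ℕ) {N H : Over S} [GrpObj H] (ζ : N ⟶ H) : Prop where
  mono : Mono ζ
  pts : ∀ (X : Over S) (h : X ⟶ H), (∃ y : X ⟶ N, y ≫ ζ = h) ↔ h ^ n = 1

/-- the kernel of the `n`-th power map -/
noncomputable abbrev zN (H : Over S) [GrpObj H] (n : ℕ) : Over S := Over.mk (z H n ≫ H.hom)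

/-- the inclusion of the kernel of the `n`-th power map -/
noncomputable abbrev zeta (H : Over S) [GrpObj H] (n : ℕ) : zN H n ⟶ H := Over.homMk (z H n) rfl

theorem isTor_zeta (H : Over S) [GrpObj H] (n : ℕ) : IsTor n (zeta H n) := by
  have hη : Mono η[H] := ⟨fun a b _ => toUnit_unique _ _⟩
  have hη' : Mono η[H].left := inferInstance
  have hz : Mono (z H n) := inferInstance
  refine ⟨Over.mono_of_mono_left _, fun X h => ?_⟩
  rw [K12.DensePow.pow_eq_one_iff]
  constructor
  · rintro ⟨y, rfl⟩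
    exact ⟨y.left, rfl⟩
  · rintro ⟨l, hl⟩
    refine ⟨Over.homMk l ?_, ?_⟩
    · change l ≫ z H n ≫ H.hom = _
      rw [reassoc_of% hl]
      exact Over.w h
    · ext1
      exact hl

/-- Base change. -/
theorem IsTor.bc {n : ℕ} {L H : Over S} [GrpObj H] {ℓ : L ⟶ H} (h : IsTor n ℓ) (f : S' ⟶ S) :
    IsTor n ((Over.pullback f).map ℓ) := by
  have h2 := h.mono
  refine ⟨inferInstance, fun X x => ?_⟩
  have hpow : (BcPts.bcEquiv f X H).symm (x ^ n) = ((BcPts.bcEquiv f X H).symm x) ^ n :=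
    map_pow (BcPts.bcMulEquiv f X H).symm x n
  have hone : (BcPts.bcEquiv f X H).symm 1 = 1 := map_one (BcPts.bcMulEquiv f X H).symm
  have h3 := h.pts ((Over.map f).obj X) ((BcPts.bcEquiv f X H).symm x)
  rw [← hpow, ← hone, (BcPts.bcEquiv f X H).symm.injective.eq_iff] at h3
  rw [← h3]
  constructor
  · rintro ⟨y, rfl⟩
    exact ⟨(BcPts.bcEquiv f X L).symm y, (BcPts.bcEquiv_symm_comp f y ℓ).symm⟩
  · rintro ⟨y, hy⟩
    refine ⟨BcPts.bcEquiv f X L y, ?_⟩
    rw [← BcPts.bcEquiv_comp, hy, Equiv.apply_symm_apply]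

/-- Transport along an isomorphism of the ambient group. -/
theorem IsTor.comp_iso {n : ℕ} {L H H' : Over S} [GrpObj H] [GrpObj H'] {ℓ : L ⟶ H} (h : IsTor n ℓ)
    (e : Grp.mk H ≅ Grp.mk H') : IsTor n (ℓ ≫ e.hom.hom.hom) := by
  have h2 := h.mono
  have h3 : IsMonHom e.hom.hom.hom := e.hom.hom.isMonHom_hom
  have h3' : IsMonHom e.inv.hom.hom := e.inv.hom.isMonHom_hom
  have h4 : e.hom.hom.hom ≫ e.inv.hom.hom = 𝟙 _ := congrArg (fun k => k.hom.hom) e.hom_inv_id
  have h5 : e.inv.hom.hom ≫ e.hom.hom.hom = 𝟙 _ := congrArg (fun k => k.hom.hom) e.inv_hom_id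
  have h6 : IsIso e.hom.hom.hom := ⟨_, h4, h5⟩
  refine ⟨inferInstance, fun X x => ?_⟩
  have h7 := h.pts X (x ≫ e.inv.hom.hom)
  rw [← K13.NTorsion.pow_comp] at h7
  have h8 : (x ^ n) ≫ e.inv.hom.hom = 1 ↔ x ^ n = 1 := by
    constructor
    · intro h9
      have := congrArg (fun k => k ≫ e.hom.hom.hom) h9
      simp only [Category.assoc, h5, Category.comp_id, MonObj.one_comp] at this
      exact this
    · intro h9
      rw [h9, MonObj.one_comp]
  rw [← h8, ← h7]
  constructor
  · rintro ⟨y, rfl⟩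
    exact ⟨y, by simp only [Category.assoc, h4, Category.comp_id]⟩
  · rintro ⟨y, hy⟩
    exact ⟨y, by rw [← Category.assoc, hy, Category.assoc, h5, Category.comp_id]⟩

/-- Uniqueness. -/
theorem IsTor.iso {n : ℕ} {L L' H : Over S} [GrpObj H] {ℓ : L ⟶ H} {ℓ' : L' ⟶ H}
    (h : IsTor n ℓ) (h' : IsTor n ℓ') : Nonempty (L ≅ L') := by
  have h2 := h.mono
  have h4 := h'.mono
  obtain ⟨a, ha⟩ := (h'.pts L ℓ).2 ((h.pts L ℓ).1 ⟨𝟙 _, Category.id_comp _⟩)
  obtain ⟨b, hb⟩ := (h.pts L' ℓ').2 ((h'.pts L' ℓ').1 ⟨𝟙 _, Category.id_comp _⟩)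
  exact ⟨⟨a, b, by rw [← cancel_mono ℓ, Category.assoc, hb, ha, Category.id_comp],
    by rw [← cancel_mono ℓ', Category.assoc, ha, hb, Category.id_comp]⟩⟩

section aff

variable {k B D : Type u} [CommRing k] [CommRing B] [HopfAlgebra k B] [CommRing D] [Algebra k D]

open WithConv in
lemma specMap_pow (f : B →ₐ[k] D) (n : ℕ) :
    (specMap k f : SpecOver k D ⟶ SpecOver k B) ^ n = specMap k ((toConv f) ^ n).ofConv := by
  induction n with
  | zero => rw [pow_zero, pow_zero, specMap_one]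
  | succ n ih =>
    rw [pow_succ, pow_succ, ih]
    exact (specMap_mul k ((toConv f) ^ n) (toConv f)).symm

lemma specMap_pow_eq_one_iff (f : B →ₐ[k] D) (n : ℕ) :
    (specMap k f : SpecOver k D ⟶ SpecOver k B) ^ n = 1 ↔ torsionIdeal k B n ≤ RingHom.ker f := by
  rw [specMap_pow, K202.Conv.torsionIdeal_le_ker_iff, ← specMap_one k]
  constructor
  · intro h
    exact congrArg WithConv.toConv (specMap_injective k h)
  · intro h
    rw [h]

/-- The kernel of the `n`-th power map of `Spec B` is `Spec (B / T_n)`. -/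
theorem exists_iso_specOver (k B : Type u) [CommRing k] [CommRing B] [HopfAlgebra k B] (n : ℕ) :
    Nonempty (zN (SpecOver k B) n ≅ SpecOver k (B ⧸ torsionIdeal k B n)) := by
  have hT := isTor_zeta (SpecOver k B) n
  have hmono := hT.mono
  have haff : IsAffine (zN (SpecOver k B) n).left := by
    have h1 : IsAffine (𝟙_ (Over (Spec (CommRingCat.of k)))).left :=
      inferInstanceAs (IsAffine (Spec (CommRingCat.of k)))
    have h2 : IsAffine (SpecOver k B).left := inferInstanceAs (IsAffine (Spec (CommRingCat.of B)))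
    change IsAffine (pullback _ _)
    infer_instance
  obtain ⟨D, _, _, ⟨e⟩⟩ := RG.BrDiag.exists_specOver (zN (SpecOver k B) n)
  let f : B →ₐ[k] D := specPreimage k (e.inv ≫ zeta _ n)
  have hf : specMap k f = e.inv ≫ zeta _ n := specMap_specPreimage k _
  have h1 : torsionIdeal k B n ≤ RingHom.ker f := by
    rw [← specMap_pow_eq_one_iff, hf]
    exact (hT.pts _ _).1 ⟨e.inv, rfl⟩
  let g : (B ⧸ torsionIdeal k B n) →ₐ[k] D := Ideal.Quotient.liftₐ _ f fun a ha => h1 ha
  let q : B →ₐ[k] (B ⧸ torsionIdeal k B n) := Ideal.Quotient.mkₐ k _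
  have hg : g.comp q = f := Ideal.Quotient.liftₐ_comp _ _ _
  have h2 : (specMap k q) ^ n = 1 := by
    rw [specMap_pow_eq_one_iff]
    exact (Ideal.Quotient.mkₐ_ker k (torsionIdeal k B n)).ge
  obtain ⟨b, hb⟩ := (hT.pts _ _).2 h2
  have hq : Mono (specMap k q) := by
    have h3 : IsClosedImmersion (specMap k q).left := by
      rw [specMap_left]
      exact IsClosedImmersion.spec_of_surjective _ Ideal.Quotient.mk_surjective
    exact Over.mono_of_mono_left _
  have ha : (e.hom ≫ specMap k g) ≫ specMap k q = zeta _ n := by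
    rw [Category.assoc, ← specMap_comp, hg, hf, Iso.hom_inv_id_assoc]
  exact ⟨⟨e.hom ≫ specMap k g, b, by rw [← cancel_mono (zeta (SpecOver k B) n), Category.assoc, hb, ha,
    Category.id_comp], by rw [← cancel_mono (specMap k q), Category.assoc, ha, hb, Category.id_comp]⟩⟩

end aff

lemma finrank_of_iso_comp {X : Scheme.{u}} {k T : Type u} [Field k] [CommRing T] [Algebra k T] [Module.Finite k T]
    (c : X ⟶ Spec (CommRingCat.of T)) (hc : IsIso c) (f : X ⟶ Spec (CommRingCat.of k))
    (h : c ≫ Spec.map (CommRingCat.ofHom (algebraMap k T)) = f) (x : Spec (CommRingCat.of k)) :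
    f.finrank x = Module.finrank k T := by
  have h2 : Flat (Spec.map (CommRingCat.ofHom (algebraMap k T))) := by
    rw [HasRingHomProperty.Spec_iff (P := @Flat)]
    exact RingHom.flat_algebraMap_iff.mpr inferInstance
  have h3 : IsFinite (Spec.map (CommRingCat.ofHom (algebraMap k T))) := by
    rw [IsFinite.SpecMap_iff]
    exact RingHom.finite_algebraMap.mpr inferInstance
  rw [← h]
  refine (congrFun (Scheme.Hom.finrank_comp_left_of_isIso c _) x).trans ?_
  refine (Scheme.Hom.finrank_SpecMap_algebraMap k T x).trans ?_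
  rw [Module.rankAtStalk_eq_finrank_of_free]
  rfl

/-- The rank of the fibre of the kernel of the `n`-th power map. -/
theorem finrank_fiber (H : Over S) [GrpObj H] (n : ℕ) {k : Type u} [Field k] (f : Spec (CommRingCat.of k) ⟶ S)
    (x : Spec (CommRingCat.of k)) (B : Type u) [CommRing B] [HopfAlgebra k B]
    (e : Grp.mk (Red.bc f H) ≅ Grp.mk (SpecOver k B))
    (hfin : Module.Finite k (B ⧸ torsionIdeal k B n)) :
    (pullback.snd (z H n ≫ H.hom) f).finrank x = Module.finrank k (B ⧸ torsionIdeal k B n) := by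
  obtain ⟨a⟩ := (((isTor_zeta H n).bc f).comp_iso e).iso (isTor_zeta (SpecOver k B) n)
  obtain ⟨b⟩ := exists_iso_specOver k B n
  let c : Red.bc f (zN H n) ≅ SpecOver k (B ⧸ torsionIdeal k B n) := a ≪≫ b
  have hc : IsIso c.hom.left := inferInstanceAs (IsIso ((Over.forget _).map c.hom))
  exact finrank_of_iso_comp c.hom.left hc (pullback.snd (z H n ≫ H.hom) f) (Over.w c.hom) x

end K201.TorsScheme
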